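import Mathlib

/-!
Coverings of graphs: if all triangles, quadrangles and pentagons are filled then a connected
covering is trivial.
-/

set_option autoImplicit false

namespace H63.Phan

/-- A covering of graphs with loops. -/
structure Cov (X Y : Type*) where
  /-- the projection -/
  p : Y → X
  /-- adjacency below -/
  R : X → X → Prop
  /-- adjacency above -/
  A : Y → Y → Prop
  R_symm : ∀ {a b}, R a b → R b a
  refl : ∀ y, A y y
  symm : ∀ {y z}, A y z → A z y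
  map : ∀ {y z}, A y z → R (p y) (p z)
  ex : ∀ {y x}, R (p y) x → ∃ z, A y z ∧ p z = x
  uniq : ∀ {y z z'}, A y z → A y z' → p z = p z' → z = z'

namespace Cov

variable {X Y : Type*} (C : Cov X Y)

/-- Triangles which lift to triangles. -/
def T (a b c : X) : Prop := C.R a b ∧ C.R a c ∧ C.R b c ∧
  ∀ y z w, C.p y = a → C.p z = b → C.p w = c → C.A y z → C.A y w → C.A z w

/-- Quadrangles which lift to quadrangles. -/
def Via (a c b d : X) : Prop := ∀ y z z' w w', C.p y = a → C.p z = b → C.p z' = d → C.p w = c →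
  C.p w' = c → C.A y z → C.A y z' → C.A z w → C.A z' w' → w = w'

variable {C} {a b c d e : X}

lemma T.swap (h : C.T a b c) : C.T a c b :=
  ⟨h.2.1, h.1, C.R_symm h.2.2.1, fun y z w h1 h2 h3 h4 h5 => C.symm (h.2.2.2 y w z h1 h3 h2 h5 h4)⟩

lemma T.swap' (h : C.T a b c) : C.T b a c := by
  refine ⟨C.R_symm h.1, h.2.2.1, h.2.1, ?_⟩
  rintro y z w rfl rfl rfl h4 h5
  obtain ⟨w', h6, h7⟩ := C.ex h.2.1
  rwa [← C.uniq (h.2.2.2 z y w' rfl rfl h7 (C.symm h4) h6) h5 h7]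

lemma T.rot (h : C.T a b c) : C.T b c a := h.swap'.swap

lemma T.rot' (h : C.T a b c) : C.T c a b := h.rot.rot

lemma T.cone (h1 : C.T a b d) (h2 : C.T a c d) (h3 : C.T b c d) : C.T a b c := by
  refine ⟨h1.1, h2.1, h3.1, ?_⟩
  rintro y z w rfl rfl rfl h4 h5
  obtain ⟨v, h6, rfl⟩ := C.ex h1.2.1
  exact h3.rot'.2.2.2 v z w rfl rfl rfl (C.symm (h1.2.2.2 y z v rfl rfl rfl h4 h6))
    (C.symm (h2.2.2.2 y w v rfl rfl rfl h5 h6))

lemma via_of_T (h1 : C.T a b d) (h2 : C.T c b d) : C.Via a c b d := by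
  rintro y z z' w w' rfl rfl rfl rfl e h4 h5 h6 h7
  exact C.uniq (h2.rot.2.2.2 z z' w rfl rfl rfl (h1.2.2.2 y z z' rfl rfl rfl h4 h5) h6) h7 e.symm

lemma Via.trans (h1 : C.Via a c b d) (h2 : C.Via a c d e) (h3 : C.R a d) (h4 : C.R d c) :
    C.Via a c b e := by
  rintro y z z' w w' rfl rfl rfl rfl e h5 h6 h7 h8
  obtain ⟨u, h9, rfl⟩ := C.ex h3
  obtain ⟨v, h10, e'⟩ := C.ex h4
  exact (h1 y z u w v rfl rfl rfl rfl e' h5 h9 h7 h10).trans
    (h2 y u z' v w' rfl rfl rfl e' e h9 h6 h10 h8)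

lemma Via.symm (h : C.Via a c b d) : C.Via a c d b :=
  fun y z z' w w' h1 h2 h3 h4 h5 h6 h7 h8 h9 => (h y z' z w' w h1 h3 h2 h5 h4 h7 h6 h9 h8).symm

lemma via_of_T' (h1 : C.T a b c) (h2 : C.T a d c) : C.Via a c b d := by
  rintro y z z' w w' rfl rfl rfl rfl e h4 h5 h6 h7
  exact C.uniq (h1.swap'.2.2.2 z y w rfl rfl rfl (C.symm h4) h6)
    (h2.swap'.2.2.2 z' y w' rfl rfl e (C.symm h5) h7) e.symm

theorem eq_of_reach (hQ : ∀ a b c d, C.R a b → C.R b c → C.R a d → C.R d c → C.Via a c b d)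
    (hP : ∀ a c d, C.R c d → ∃ f, C.R a f ∧ C.T c d f) {y z : Y}
    (h : Relation.ReflTransGen C.A y z) (e : C.p z = C.p y) : z = y := by
  have : ∃ u, C.A y u ∧ C.A u z := by
    clear e
    induction h with
    | refl => exact ⟨y, C.refl y, C.refl y⟩
    | @tail v w _ h2 ih =>
      obtain ⟨u, h3, h4⟩ := ih
      obtain ⟨f, h5, h6⟩ := hP (C.p y) _ _ (C.map h2)
      obtain ⟨t, h7, rfl⟩ := C.ex h5
      obtain ⟨v', h8, e⟩ := C.ex (C.R_symm h6.2.1)
      obtain rfl := hQ _ _ _ _ (C.map h3) (C.map h4) h5 (C.R_symm h6.2.1) y u t v v' rfl rfl rfl rfl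
        e h3 h7 h4 h8
      exact ⟨t, h7, C.symm (h6.2.2.2 v w t rfl rfl rfl h2 (C.symm h8))⟩
  obtain ⟨u, h1, h2⟩ := this
  exact hQ _ _ _ _ (C.map h1) (C.map h2) (C.map (C.refl y)) (by rw [e]; exact C.map (C.refl y)) y u y z y rfl rfl
    rfl rfl e.symm h1 (C.refl y) h2 (C.refl y)

end Cov

end H63.Phan
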