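import Mathlib
import Cfsg.Agent.Lib.Unitary.Simple

/-!
Orthonormal frames and the embeddings of special unitary groups attached to them.
-/

set_option autoImplicit false
set_option linter.unusedSectionVars false

namespace H63.Phan

open Matrix Cfsg H11.U

variable {F : Type*} [Field F] [Fintype F] {q n k l : ℕ} [IsSq F q]

variable (q) in
/-- Orthonormal families. -/
def ON (w : Fin k → Fin n → F) : Prop := ∀ i j, hermForm n F q (w i) (w j) = if i = j then 1 else 0

variable (q) in
/-- The coordinates with respect to a family. -/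
def co (w : Fin k → Fin n → F) (x : Fin n → F) : Fin k → F := fun i => hermForm n F q x (w i)

/-- The linear combinations of a family. -/
def lc (w : Fin k → Fin n → F) (u : Fin k → F) : Fin n → F := (of w)ᵀ *ᵥ u

lemma lc_eq (w : Fin k → Fin n → F) (u : Fin k → F) : lc w u = ∑ i, u i • w i := by
  ext x; simp [lc, mulVec, dotProduct, mul_comm]

lemma co_eq (w : Fin k → Fin n → F) (x : Fin n → F) : co q w x = (of w).map (cj q) *ᵥ x := by
  ext i; simp [co, form_def, mulVec, dotProduct, mul_comm]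

lemma lc_single (w : Fin k → Fin n → F) (i : Fin k) : lc w (Pi.single i 1) = w i := by
  ext x; simp [lc]

lemma lc_smul (w : Fin k → Fin n → F) (c : F) (u : Fin k → F) : lc w (c • u) = c • lc w u :=
  mulVec_smul _ _ _

lemma lc_add (w : Fin k → Fin n → F) (u v : Fin k → F) : lc w (u + v) = lc w u + lc w v :=
  mulVec_add _ _ _

lemma lc_zero (w : Fin k → Fin n → F) : lc w 0 = 0 := mulVec_zero _

lemma form_lc (w : Fin k → Fin n → F) (x : Fin n → F) (u : Fin k → F) :
    hermForm n F q x (lc w u) = hermForm k F q (co q w x) u := by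
  rw [lc_eq, ← sesq_apply, map_sum, LinearMap.sum_apply, form_def]
  simp [sesq_apply, co, mul_comm]

lemma mulVec_lc (g : Matrix (Fin n) (Fin n) F) (w : Fin k → Fin n → F) (u : Fin k → F) :
    g *ᵥ lc w u = lc (fun i => g *ᵥ w i) u := by
  simp [lc_eq, mulVec_sum, mulVec_smul]

lemma lc_lc (w : Fin k → Fin n → F) (v : Fin l → Fin k → F) (u : Fin l → F) :
    lc w (lc v u) = lc (fun i => lc w (v i)) u := by
  rw [lc_eq v, lc_eq (fun i => lc w (v i)), lc, mulVec_sum]; simp [mulVec_smul, lc]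

namespace ON

variable {w : Fin k → Fin n → F} (h : ON q w)
include h

lemma self (i : Fin k) : hermForm n F q (w i) (w i) = 1 := by simp [h i i]

lemma ne {i j : Fin k} (e : i ≠ j) : hermForm n F q (w i) (w j) = 0 := by simp [h i j, e]

lemma co_lc (u : Fin k → F) : co q w (lc w u) = u := by
  ext i
  rw [co, form_swap, form_lc, cj_form, show co q w (w i) = Pi.single i 1 from
    funext fun j => by simp [co, h i j, Pi.single_apply, eq_comm], form_single_one_right]

lemma form (u v : Fin k → F) : hermForm n F q (lc w u) (lc w v) = hermForm k F q u v := by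
  rw [form_lc, h.co_lc]

lemma lc_inj : Function.Injective (lc w) := fun u v e => by rw [← h.co_lc u, e, h.co_lc]

lemma mul : (of w).map (cj q) * (of w)ᵀ = 1 := by
  refine toLin'.injective (LinearMap.ext fun u => ?_)
  simpa [← mulVec_mulVec, ← co_eq, lc] using h.co_lc u

lemma co_sub (x : Fin n → F) : co q w (x - lc w (co q w x)) = 0 := by
  rw [co_eq, mulVec_sub, ← co_eq, ← co_eq, h.co_lc, sub_self]

lemma comp {v : Fin l → Fin k → F} (h' : ON q v) : ON q fun i => lc w (v i) :=
  fun i j => (h.form _ _).trans (h' i j)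

lemma map {g : Matrix (Fin n) (Fin n) F} (hg : IsIso q g) : ON q fun i => g *ᵥ w i :=
  fun i j => (hg _ _).trans (h i j)

lemma su_map (g : SU n F q) : ON q fun i => g.1.1 *ᵥ w i :=
  fun i j => (su_form g _ _).trans (h i j)

lemma gu_map (g : GU n F q) : ON q fun i => g.1.1 *ᵥ w i :=
  fun i j => (gu_form g _ _).trans (h i j)

lemma sub (f : Fin l → Fin k) (hf : Function.Injective f) : ON q (w ∘ f) := fun i j => by
  simp [h (f i) (f j), hf.eq_iff]

lemma ext {g g' : SU n F q} (h1 : ∀ u, g.1.1 *ᵥ lc w u = g'.1.1 *ᵥ lc w u)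
    (h2 : ∀ x, co q w x = 0 → g.1.1 *ᵥ x = g'.1.1 *ᵥ x) : g = g' := su_ext fun x => by
  simpa [mulVec_sub, h1] using h2 _ (h.co_sub x)

lemma mat_mulVec (A : Matrix (Fin k) (Fin k) F) (x : Fin n → F) :
    (1 + (of w)ᵀ * ((A - 1) * (of w).map (cj q))) *ᵥ x =
      lc w (A *ᵥ co q w x) + (x - lc w (co q w x)) := by
  simp only [add_mulVec, one_mulVec, ← mulVec_mulVec, ← co_eq, sub_mulVec, mulVec_sub, lc]; abel

/-- The embedding attached to an orthonormal family. -/
def emb : SU k F q →* SU n F q := MonoidHom.mk'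
  (fun A => toSU (1 + (of w)ᵀ * ((A.1.1 - 1) * (of w).map (cj q))) (fun x y => by
      have h1 : ∀ x u, hermForm n F q (x - lc w (co q w x)) (lc w u) = 0 := fun x u => by
        rw [form_lc, h.co_sub, form_zero_left]
      have h2 : ∀ x y, hermForm n F q (lc w (co q w x) + (x - lc w (co q w x)))
        (lc w (co q w y) + (y - lc w (co q w y))) = hermForm n F q x y := by simp
      rw [h.mat_mulVec, h.mat_mulVec, ← h2 x y]
      simp only [form_add_left, form_add_right, h1, form_eq_zero_symm (h1 _ _), h.form, su_form])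
    (by rw [det_one_add_mul_comm, Matrix.mul_assoc, h.mul]; simp))
  fun A B => su_ext fun x => by
    rw [su_mul]
    refine (h.mat_mulVec _ _).trans (Eq.trans ?_ (h.mat_mulVec _ _).symm)
    erw [h.mat_mulVec]
    rw [co_eq w (_ + _), mulVec_add, ← co_eq, ← co_eq, h.co_lc, h.co_sub, add_zero, su_mul]
    abel

lemma emb_mulVec (A : SU k F q) (x : Fin n → F) :
    (h.emb A).1.1 *ᵥ x = lc w (A.1.1 *ᵥ co q w x) + (x - lc w (co q w x)) := h.mat_mulVec _ x

lemma emb_lc (A : SU k F q) (u : Fin k → F) : (h.emb A).1.1 *ᵥ lc w u = lc w (A.1.1 *ᵥ u) := by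
  simp [h.emb_mulVec, h.co_lc]

lemma emb_w (A : SU k F q) (i : Fin k) :
    (h.emb A).1.1 *ᵥ w i = lc w (A.1.1 *ᵥ Pi.single i 1) := by rw [← h.emb_lc, lc_single]

lemma emb_perp (A : SU k F q) {x : Fin n → F} (hx : co q w x = 0) : (h.emb A).1.1 *ᵥ x = x := by
  simp [h.emb_mulVec, hx, lc_zero]

lemma emb_inj : Function.Injective h.emb := fun A B e =>
  su_ext fun u => h.lc_inj (by rw [← h.emb_lc, e, h.emb_lc])

lemma emb_comp {v : Fin l → Fin k → F} (h' : ON q v) (A : SU l F q) :
    h.emb (h'.emb A) = (h.comp h').emb A := (h.comp h').ext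
  (fun u => by rw [emb_lc, ← lc_lc, emb_lc, emb_lc, lc_lc]) fun x hx => by
    rw [emb_perp _ _ hx, emb_mulVec, emb_perp, add_sub_cancel]
    exact funext fun i => (form_lc w x (v i)).symm.trans (congrFun hx i)

lemma emb_conj (g : SU n F q) (A : SU k F q) : g * h.emb A * g⁻¹ = (h.su_map g).emb A :=
  (h.su_map g).ext (fun u => by
    rw [emb_lc, ← mulVec_lc, su_mul, su_mul, su_inv_mul, emb_lc, mulVec_lc]) fun x hx => by
    rw [emb_perp _ _ hx, su_mul, su_mul, emb_perp, su_mul_inv]
    exact funext fun i => by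
      have := congrFun hx i
      rw [co, ← su_form g⁻¹, su_inv_mul] at this
      exact this

lemma emb_congr {w' : Fin k → Fin n → F} (h' : ON q w') (e : w = w') : h.emb = h'.emb := by
  subst e; rfl

lemma mem_range {g : SU n F q} : g ∈ h.emb.range ↔ ∀ x, co q w x = 0 → g.1.1 *ᵥ x = x := by
  refine ⟨by rintro ⟨A, rfl⟩ x hx; exact h.emb_perp A hx, fun hg => ?_⟩
  let A := (of w).map (cj q) * g.1.1 * (of w)ᵀ
  have h1 : ∀ u, lc w (A *ᵥ u) = g.1.1 *ᵥ lc w u := fun u => eq_of_form_eq (q := q) fun v => by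
    have := form_sub_right (q := q) (g.1.1 *ᵥ lc w u) v (lc w (co q w v))
    rw [← hg _ (h.co_sub v), su_form, form_eq_zero_symm (by rw [form_lc, h.co_sub, form_zero_left]),
      eq_comm, sub_eq_zero, form_lc] at this
    rw [this, form_swap, form_lc, cj_form, ← mulVec_mulVec, ← mulVec_mulVec, ← co_eq]; rfl
  have h2 : 1 + (of w)ᵀ * ((A - 1) * (of w).map (cj q)) = g.1.1 :=
    toLin'.injective (LinearMap.ext fun x => by
      rw [toLin'_apply, toLin'_apply, h.mat_mulVec, h1, ← hg _ (h.co_sub x), ← mulVec_add]; simp)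
  refine ⟨toSU A (fun u v => by rw [← h.form, h1, h1, su_form, h.form]) ?_,
    Subtype.ext (Subtype.ext h2)⟩
  rw [← g.1.2, ← h2, det_one_add_mul_comm, Matrix.mul_assoc, h.mul]; simp

lemma exists_gu {w' : Fin k → Fin n → F} (h' : ON q w') : ∃ g : GU n F q, ∀ i, g.1.1 *ᵥ w i = w' i := by
  have : ∀ j, ∃ g : GU n F q, ∀ i : Fin k, i.val < j → g.1.1 *ᵥ w i = w' i := fun j => by
    induction j with
    | zero => exact ⟨1, by simp⟩
    | succ j ih =>
      obtain ⟨g, hg⟩ := ih
      by_cases hj : j < k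
      swap; · exact ⟨g, fun i _ => hg i (by omega)⟩
      let W : Submodule F (Fin n → F) := ⨅ i : Fin k, ⨅ _ : i.val < j, LinearMap.ker (formL q (w' i))
      have hW : ∀ x, x ∈ W ↔ ∀ i : Fin k, i.val < j → hermForm n F q x (w' i) = 0 := by
        simp [W, formL_apply]
      obtain ⟨g', h1, h2⟩ := exists_gu_mulVec (q := q) (W := W) (u := g.1.1 *ᵥ w ⟨j, hj⟩)
        (u' := w' ⟨j, hj⟩) ((hW _).2 fun i hi => by
          rw [← hg i hi, gu_form, h.ne (by rintro rfl; simp at hi)])
        ((hW _).2 fun i hi => h'.ne (by rintro rfl; simp at hi))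
        (by rw [gu_form, h.self, h'.self]) (by simp [gu_form, h.self])
      refine ⟨g' * g, fun i hi => ?_⟩
      rw [gu_mul]
      rcases Nat.lt_succ_iff_lt_or_eq.1 hi with hi | rfl
      · rw [hg i hi, h2 _ fun x hx => form_eq_zero_symm ((hW x).1 hx i hi)]
      · exact h1
  exact (this k).imp fun g hg i => hg i i.2

end ON

lemma on_std (f : Fin k → Fin n) (hf : Function.Injective f) :
    ON q fun i => (Pi.single (f i) 1 : Fin n → F) := fun i j => by
  simp [form_single_single, hf.eq_iff]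

namespace ON

variable {w : Fin k → Fin n → F} (h : ON q w)
include h

/-- Orthonormal families extend. -/
lemma exists_ext (hl : k + l ≤ n) : ∃ v : Fin l → Fin n → F, ON q v ∧ ∀ i, co q w (v i) = 0 := by
  obtain ⟨g, hg⟩ := (on_std (Fin.castLE (by omega : k ≤ n)) (Fin.castLE_injective _)).exists_gu h
  refine ⟨_, (on_std (fun i : Fin l => (⟨k + i, by omega⟩ : Fin n))
    (fun i j e => by simpa [Fin.ext_iff] using e)).gu_map g, fun i => funext fun j => ?_⟩
  rw [co, ← hg, gu_form, form_single_single, if_neg (by simp [Fin.ext_iff]; omega)]; rfl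

lemma exists_perp (hl : k < n) : ∃ v, hermForm n F q v v = 1 ∧ co q w v = 0 :=
  let ⟨v, h1, h2⟩ := h.exists_ext (l := 1) hl
  ⟨v 0, h1.self 0, h2 0⟩

/-- Witt's lemma for orthonormal families. -/
lemma exists_su {w' : Fin k → Fin n → F} (h' : ON q w') (hk : k < n) :
    ∃ g : SU n F q, ∀ i, g.1.1 *ᵥ w i = w' i := by
  obtain ⟨g, hg⟩ := h.exists_gu h'
  obtain ⟨v, h1, h2⟩ := h'.exists_perp hk
  obtain ⟨s, hs⟩ := exists_su_of_gu g (w := v) (by simp [h1])
  exact ⟨s, fun i => by rw [hs _ (by rw [hg]; exact form_eq_zero_symm (congrFun h2 i)), hg]⟩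

end ON

lemma on_one {a : Fin n → F} : ON q ![a] ↔ hermForm n F q a a = 1 := by
  simp [ON, Fin.forall_fin_succ]

lemma on_two {a b : Fin n → F} : ON q ![a, b] ↔
    hermForm n F q a a = 1 ∧ hermForm n F q b b = 1 ∧ hermForm n F q a b = 0 := by
  simp only [ON, Fin.forall_fin_succ]
  simp [form_eq_zero_comm (u := b) (v := a)]; tauto

lemma on_three {a b c : Fin n → F} : ON q ![a, b, c] ↔
    hermForm n F q a a = 1 ∧ hermForm n F q b b = 1 ∧ hermForm n F q c c = 1 ∧
      hermForm n F q a b = 0 ∧ hermForm n F q a c = 0 ∧ hermForm n F q b c = 0 := by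
  simp only [ON, Fin.forall_fin_succ]
  simp [form_eq_zero_comm (u := b) (v := a), form_eq_zero_comm (u := c)]; tauto

lemma lc_two (a b : Fin n → F) (u : Fin 2 → F) : lc ![a, b] u = u 0 • a + u 1 • b := by
  simp [lc_eq]

lemma lc_three (a b c : Fin n → F) (u : Fin 3 → F) :
    lc ![a, b, c] u = u 0 • a + u 1 • b + u 2 • c := by simp [lc_eq, Fin.sum_univ_three]

lemma co_one {a x : Fin n → F} : co q ![a] x = 0 ↔ hermForm n F q x a = 0 := by
  simp [funext_iff, co]

lemma co_two {a b x : Fin n → F} :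
    co q ![a, b] x = 0 ↔ hermForm n F q x a = 0 ∧ hermForm n F q x b = 0 := by
  simp [funext_iff, co]

lemma co_three {a b c x : Fin n → F} : co q ![a, b, c] x = 0 ↔
    hermForm n F q x a = 0 ∧ hermForm n F q x b = 0 ∧ hermForm n F q x c = 0 := by
  simp [funext_iff, co, Fin.forall_fin_succ]

end H63.Phan
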