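import Mathlib
import Cfsg.Agent.Lib.Phan.Cover
import Cfsg.Agent.Lib.Phan.Emb

/-!
The graph of unit vectors of a unitary space: simple connectivity.
-/

set_option autoImplicit false
set_option linter.unusedSectionVars false

namespace H63.Phan

open Matrix Cfsg H11.U Polynomial

variable {F : Type*} [Field F] [Fintype F] {q n k : ℕ} [IsSq F q]

local notation "B" => hermForm n F q

variable (q) in
/-- The norm. -/
def nm (x : F) : F := x * cj q x

lemma nm_cj (x : F) : nm q (cj q x) = nm q x := by rw [nm, nm, cj_cj, mul_comm]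

lemma cj_nm (x : F) : cj q (nm q x) = nm q x := cj_norm x

lemma nm_form (a b : Fin n → F) : nm q (B a b) = nm q (B b a) := by rw [← cj_form, nm_cj]

lemma nm_eq_zero {x : F} : nm q x = 0 ↔ x = 0 := by simp [nm]

@[simp] lemma nm_zero : nm q (0 : F) = 0 := by simp [nm]

variable (q) in
/-- Unit vectors on a common nondegenerate line. -/
def Adj (a b : Fin n → F) : Prop := nm q (B a b) ≠ 1 ∨ ∃ c : F, b = c • a

variable (q) in
/-- Vectors in a common nondegenerate plane. -/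
def Pl (a b c : Fin n → F) : Prop :=
  ∃ v : Fin 3 → Fin n → F, ON q v ∧ ∃ x y z, a = lc v x ∧ b = lc v y ∧ c = lc v z

/-- The span of two vectors. -/
def Sp (u v a : Fin n → F) : Prop := ∃ x y : F, a = x • u + y • v

lemma sp_left (u v : Fin n → F) : Sp u v u := ⟨1, 0, by simp⟩

lemma sp_right (u v : Fin n → F) : Sp u v v := ⟨0, 1, by simp⟩

lemma Sp.comb {u v a b : Fin n → F} (ha : Sp u v a) (hb : Sp u v b) (s t : F) :
    Sp u v (s • a + t • b) := by
  obtain ⟨x, y, rfl⟩ := ha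
  obtain ⟨x', y', rfl⟩ := hb
  exact ⟨s * x + t * x', s * y + t * y', by module⟩

lemma Sp.perp {u v a d : Fin n → F} (ha : Sp u v a) (h1 : B d u = 0) (h2 : B d v = 0) :
    B d a = 0 := by
  obtain ⟨x, y, rfl⟩ := ha
  simp [form_add_right, form_smul_right, h1, h2]

lemma adj_of_perp {a b : Fin n → F} (h : B a b = 0) : Adj q a b := .inl (by simp [h])

lemma Adj.symm {a b : Fin n → F} (h : Adj q a b) (hb : B b b = 1) : Adj q b a := by
  rcases h with h | ⟨c, rfl⟩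
  · exact .inl (by rwa [nm_form])
  · have : c ≠ 0 := by rintro rfl; simp [form_zero_left] at hb
    exact .inr ⟨c⁻¹, by simp [this]⟩

lemma normalize {r : Fin n → F} (hr : B r r ≠ 0) : ∃ s : F, s ≠ 0 ∧ B (s • r) (s • r) = 1 := by
  obtain ⟨s, hs⟩ := exists_norm_eq (q := q) (c := (B r r)⁻¹) (by rw [map_inv₀, cj_form])
  refine ⟨s, by rintro rfl; simp [eq_comm, hr] at hs, ?_⟩
  rw [form_smul_left, form_smul_right, ← mul_assoc, hs, inv_mul_cancel₀ hr]

lemma form_two {u v : Fin n → F} (h : ON q ![u, v]) (x y x' y' : F) :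
    B (x • u + y • v) (x' • u + y' • v) = x * cj q x' + y * cj q y' := by
  obtain ⟨h1, h2, h3⟩ := on_two.1 h
  simp [form_add_left, form_add_right, form_smul_left, form_smul_right, h1, h2, h3,
    form_eq_zero_symm h3, mul_comm]

lemma line (hn : 2 ≤ n) {a b : Fin n → F} (ha : B a a = 1) (hb : B b b = 1) (h : Adj q a b) :
    ∃ u, ON q ![a, u] ∧ Sp a u b := by
  rcases h with h | ⟨c, rfl⟩
  · have h1 : B (b - B b a • a) a = 0 := by simp [form_sub_left, form_smul_left, ha]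
    obtain ⟨s, h2, h3⟩ := normalize (q := q) (r := b - B b a • a) (by
      rw [form_sub_right, form_smul_right, h1, form_sub_left, form_smul_left, hb, ← cj_form b a]
      rw [nm_form] at h
      exact fun e => h (by rw [nm]; linear_combination -e))
    exact ⟨_, on_two.2 ⟨ha, h3, form_eq_zero_symm (by rw [form_smul_left, h1, mul_zero])⟩,
      B b a, s⁻¹, by simp [h2]⟩
  · obtain ⟨u, h1, h2⟩ := (on_one.2 ha).exists_perp hn
    exact ⟨u, on_two.2 ⟨ha, h1, form_eq_zero_symm (co_one.1 h2)⟩, c, 0, by simp⟩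

lemma adj_of_line {u v a b : Fin n → F} (h : ON q ![u, v]) (h1 : Sp u v a) (h2 : Sp u v b)
    (ha : B a a = 1) (hb : B b b = 1) : Adj q a b := by
  obtain ⟨x, y, rfl⟩ := h1
  obtain ⟨x', y', rfl⟩ := h2
  rw [form_two h] at ha hb
  refine or_iff_not_imp_left.2 fun h3 => ⟨x' * cj q x + y' * cj q y, ?_⟩
  rw [not_not, form_two h, nm] at h3
  simp only [map_add, map_mul, cj_cj] at h3
  have : x * y' - x' * y = 0 := (nm_eq_zero (q := q)).1 (by
    simp only [nm, map_sub, map_mul]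
    linear_combination (x' * cj q x' + y' * cj q y') * ha + hb - h3)
  rw [smul_add, smul_smul, smul_smul]
  congr 2
  · linear_combination (-x') * ha - cj q y * this
  · linear_combination (-y') * ha + cj q x * this

lemma pl_line (hn : 3 ≤ n) {u v a b c : Fin n → F} (h : ON q ![u, v]) (h1 : Sp u v a)
    (h2 : Sp u v b) (h3 : Sp u v c) : Pl q a b c := by
  obtain ⟨w, h4, h5⟩ := h.exists_perp hn
  obtain ⟨x, y, rfl⟩ := h1
  obtain ⟨x', y', rfl⟩ := h2
  obtain ⟨x'', y'', rfl⟩ := h3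
  obtain ⟨h6, h7, h8⟩ := on_two.1 h
  exact ⟨![u, v, w], on_three.2 ⟨h6, h7, h4, h8, form_eq_zero_symm (co_two.1 h5).1,
    form_eq_zero_symm (co_two.1 h5).2⟩, ![x, y, 0], ![x', y', 0], ![x'', y'', 0],
    by simp [lc_three], by simp [lc_three], by simp [lc_three]⟩

lemma pl_of_ne {u v a b c : Fin n → F} (h : ON q ![u, v]) (h1 : Sp u v a)
    (h2 : Sp u v b) (hc : B c c = 1) (h3 : nm q (B c u) + nm q (B c v) ≠ 1) : Pl q a b c := by
  obtain ⟨x, y, rfl⟩ := h1
  obtain ⟨x', y', rfl⟩ := h2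
  obtain ⟨h6, h7, h8⟩ := on_two.1 h
  have h9 := form_eq_zero_symm h8
  obtain ⟨s, h4, h5⟩ := normalize (q := q) (r := c - B c u • u - B c v • v) (by
    simp only [form_sub_left, form_sub_right, form_smul_left, form_smul_right, h6, h7, h8, h9, hc,
      ← cj_form c u, ← cj_form c v]
    exact fun e => h3 (by rw [nm, nm]; linear_combination -e))
  refine ⟨![u, v, _], on_three.2 ⟨h6, h7, h5, h8, ?_, ?_⟩, ![x, y, 0], ![x', y', 0],
    ![B c u, B c v, s⁻¹], by simp [lc_three], by simp [lc_three], by simp [lc_three, h4]⟩ <;>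
  simp [form_sub_right, form_smul_right, h6, h7, h8, h9, cj_form]

lemma card_roots {α β γ δ : F} (h : ¬ (α = 0 ∧ β = 0 ∧ δ = 0)) [DecidableEq F] :
    (Finset.univ.filter fun t => α + β * t + γ * cj q t + δ * (t * cj q t) = 0).card ≤ q + 1 := by
  have := two_le_q F q
  let p : F[X] := C α + C β * X + C γ * X ^ q + C δ * X ^ (q + 1)
  have hp : p ≠ 0 := fun e => h ⟨?_, ?_, ?_⟩
  rotate_left
  · simpa [p, coeff_X_pow, show 0 ≠ q by omega] using congrArg (coeff · 0) e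
  · simpa [p, coeff_X_pow, coeff_C, show 1 ≠ q by omega, show q ≠ 0 by omega] using
      congrArg (coeff · 1) e
  · simpa [p, coeff_X_pow, coeff_C, coeff_X, show q ≠ 0 by omega] using congrArg (coeff · (q + 1)) e
  refine le_trans (Finset.card_le_card (t := p.roots.toFinset) fun t ht => ?_)
    ((Multiset.toFinset_card_le _).trans (p.card_roots'.trans (by unfold p; compute_degree <;> omega)))
  rw [Multiset.mem_toFinset, mem_roots hp]
  simpa [p, cj_apply, pow_succ'] using (Finset.mem_filter.1 ht).2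

lemma exists_on_line {u v : Fin n → F} (h : ON q ![u, v]) (a b : Fin n → F) {α β : F} (hα : α ≠ 0)
    (hβ : β ≠ 0) (hq : 4 ≤ q ∨ 3 ≤ q ∧ b = 0) :
    ∃ f, Sp u v f ∧ B f f = 1 ∧ nm q (B f a) ≠ α ∧ nm q (B f b) ≠ β := by
  classical
  let S (a : Fin n → F) (α : F) := Finset.univ.filter fun t : F => (nm q (B u a) - α) +
    cj q (B u a) * B v a * t + B u a * cj q (B v a) * cj q t + (nm q (B v a) - α) * (t * cj q t) = 0
  have hS : ∀ a α, α ≠ 0 → (S a α).card ≤ q + 1 := fun a α hα => card_roots fun ⟨h1, h2, h3⟩ => by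
    rcases mul_eq_zero.1 h2 with h2 | h2
    · simp [cj_eq_zero.1 h2, hα] at h1
    · simp [h2, hα] at h3
  have h0 : S 0 β = S 0 1 := by
    ext t; simp only [S, form_zero_right, Finset.mem_filter, Finset.mem_univ, true_and, nm_zero]
    exact ⟨fun e => mul_left_cancel₀ hβ (by linear_combination e), fun e => by linear_combination β * e⟩
  obtain ⟨t, ht⟩ : ∃ t, t ∉ S 0 1 ∪ S a α ∪ S b β := by
    by_contra e
    push Not at e
    have h1 := Finset.card_le_card (fun t _ => e t : Finset.univ ⊆ _)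
    rw [Finset.card_univ, IsSq.card_eq (q := q)] at h1
    have h2 := hS 0 1 one_ne_zero
    have h3 := hS a α hα
    have h4 := hS b β hβ
    have h5 := Finset.card_union_le (S 0 1) (S a α)
    rcases hq with hq | ⟨hq, rfl⟩
    · have := Finset.card_union_le (S 0 1 ∪ S a α) (S b β); nlinarith
    · rw [h0, Finset.union_right_comm, Finset.union_self] at h1; nlinarith
  simp only [S, Finset.mem_union, Finset.mem_filter, Finset.mem_univ, true_and, not_or,
    form_zero_right, nm_zero] at ht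
  have h1 : B ((1 : F) • u + t • v) ((1 : F) • u + t • v) = 1 + t * cj q t := by
    rw [form_two h]; simp
  obtain ⟨s, h2, h3⟩ := normalize (q := q) (r := (1 : F) • u + t • v)
    (by rw [h1]; exact fun e => ht.1.1 (by linear_combination -e))
  refine ⟨_, ⟨s, s * t, by module⟩, h3, ?_⟩
  rw [form_smul_left, form_smul_right, h1] at h3
  constructor <;> intro e <;>
    simp only [nm, form_smul_left, form_add_left, map_mul, map_add, map_one] at e ht
  · exact ht.1.2 (mul_left_cancel₀ (mul_ne_zero h2 (cj_ne_zero.2 h2)) (by linear_combination e - α * h3))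
  · exact ht.2 (mul_left_cancel₀ (mul_ne_zero h2 (cj_ne_zero.2 h2)) (by linear_combination e - β * h3))

lemma ON.exists_perp' {w : Fin k → Fin n → F} (h : ON q w) (hk : k + 3 ≤ n) (x : Fin n → F) :
    ∃ y, B y y = 1 ∧ co q w y = 0 ∧ B y x = 0 := by
  obtain ⟨v, h1, h2⟩ := h.exists_ext hk
  obtain ⟨y, h3, h4⟩ : ∃ y, hermForm 3 F q y y = 1 ∧ hermForm 3 F q y (co q v x) = 0 := by
    have h3 := finrank_top' (F := F) (n := 3)
    generalize co q v x = r
    by_cases h0 : r = 0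
    · exact ⟨Pi.single 0 1, by simp [form_single_single], by simp [h0, form_zero_right]⟩
    have h4 := finrank_le_perp (q := q) ⊤ r
    by_cases hr : hermForm 3 F q r r = 0
    · obtain ⟨s, -, h5, h6⟩ := nondeg_top.exists_partner (u := r) trivial h0 hr 1 one_ne_zero
      have h7 := finrank_le_perp (q := q) (perp q ⊤ r) s
      obtain ⟨y, h8, h9⟩ := (nondeg_top.perp_pair trivial trivial hr h5 (by simp [h6])).exists_norm
        (by omega) (map_one (cj q))
      exact ⟨y, h9, h8.1.2⟩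
    · obtain ⟨y, h8, h9⟩ := (nondeg_top.perp trivial hr).exists_norm (by omega) (map_one (cj q))
      exact ⟨y, h9, h8.2⟩
  refine ⟨lc v y, by rw [h1.form, h3], funext fun i => form_eq_zero_symm ?_,
    form_eq_zero_symm (by rw [form_lc, form_eq_zero_symm h4])⟩
  rw [form_lc, show co q v (w i) = 0 from funext fun j => form_eq_zero_symm (congrFun (h2 j) i),
    form_zero_left]

variable (n F q) in
/-- Unit vectors. -/
abbrev UV := {x : Fin n → F // B x x = 1}

/-- Coverings in which the triangles in nondegenerate planes lift. -/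
structure Good {Y : Type*} (C : Cov (UV F q n) Y) : Prop where
  R : ∀ a b, C.R a b ↔ Adj q a.1 b.1
  T : ∀ a b c, C.R a b → C.R a c → C.R b c → Pl q a.1 b.1 c.1 → C.T a b c

namespace Good

variable {Y : Type*} {C : Cov (UV F q n) Y} (h : Good C) {a b c d : UV F q n}
include h

lemma perp (e : B a.1 b.1 = 0) : C.R a b := (h.R _ _).2 (adj_of_perp e)

lemma perp' (e : B b.1 a.1 = 0) : C.R a b := C.R_symm (h.perp e)

lemma T_line (hn : 3 ≤ n) {u v : Fin n → F} (h0 : ON q ![u, v]) (h1 : Sp u v a.1)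
    (h2 : Sp u v b.1) (h3 : Sp u v c.1) : C.T a b c :=
  h.T _ _ _ ((h.R _ _).2 (adj_of_line h0 h1 h2 a.2 b.2)) ((h.R _ _).2 (adj_of_line h0 h1 h3 a.2 c.2))
    ((h.R _ _).2 (adj_of_line h0 h2 h3 b.2 c.2)) (pl_line hn h0 h1 h2 h3)

lemma T_par (hn : 3 ≤ n) (h1 : C.R a c) {s : F} (e : b.1 = s • a.1) : C.T a b c := by
  obtain ⟨u, h2, h3⟩ := line (by omega) a.2 c.2 ((h.R _ _).1 h1)
  exact h.T_line hn h2 (sp_left _ _) ⟨s, 0, by simp [e]⟩ h3

lemma T_of (hn : 3 ≤ n) (h1 : C.R a b) (h2 : C.R a c) (h3 : C.R b c)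
    (H : nm q (B a.1 b.1) ≠ 1 → nm q (B a.1 c.1) ≠ 1 → nm q (B b.1 c.1) ≠ 1 → C.T a b c) :
    C.T a b c := by
  rcases (h.R _ _).1 h1 with e1 | ⟨s, e⟩
  swap; · exact h.T_par hn h2 e
  rcases (h.R _ _).1 h2 with e2 | ⟨s, e⟩
  swap; · exact (h.T_par hn h1 e).swap
  rcases (h.R _ _).1 h3 with e3 | ⟨s, e⟩
  swap; · exact (h.T_par hn (C.R_symm h1) e).rot'
  exact H e1 e2 e3

lemma T_ne (h1 : B c.1 a.1 = 0) (h2 : C.R a b) (h3 : C.R b c)
    (e : nm q (B b.1 a.1) + nm q (B b.1 c.1) ≠ 1) : C.T a b c :=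
  (h.T _ _ _ (h.perp' h1) h2 (C.R_symm h3) (pl_of_ne (on_two.2 ⟨a.2, c.2, form_eq_zero_symm h1⟩)
    (sp_left _ _) (sp_right _ _) b.2 e)).swap

lemma T_perp (hn : 3 ≤ n) (h1 : C.R a b) (h2 : B c.1 a.1 = 0) (h3 : B c.1 b.1 = 0) : C.T a b c :=
  h.T_of hn h1 (h.perp' h2) (h.perp' h3) fun e _ _ => h.T_ne h2 h1 (h.perp' h3)
    (by rwa [form_eq_zero_symm h3, nm_zero, add_zero, nm_form])

lemma T_five (hn : 5 ≤ n) (h1 : C.R a b) (h2 : C.R a c) (h3 : C.R b c) : C.T a b c := by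
  obtain ⟨u, h4, h5⟩ := line (by omega) a.2 b.2 ((h.R _ _).1 h1)
  obtain ⟨y, h6, h7, h8⟩ := h4.exists_perp' hn c.1
  obtain ⟨h9, h10⟩ := co_two.1 h7
  exact (h.T_perp (c := ⟨y, h6⟩) (by omega) h1 h9 (h5.perp h9 h10)).cone
    (h.T_perp (by omega) h2 h9 h8) (h.T_perp (by omega) h3 (h5.perp h9 h10) h8)

lemma T_four' (hn : 4 ≤ n) (hq : 4 ≤ q) (h1 : C.R a b) (h2 : B c.1 a.1 = 0) (h3 : C.R b c) :
    C.T a b c := h.T_of (by omega) h1 (h.perp' h2) h3 fun _ _ e => by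
  obtain ⟨u, h4, h5⟩ := line (by omega) a.2 b.2 ((h.R _ _).1 h1)
  obtain ⟨v, h6, h7⟩ := h4.exists_ext (l := 2) hn
  obtain ⟨y, h8, h9, h10, h11⟩ := exists_on_line (u := v 0) (v := v 1)
    (on_two.2 ⟨h6.self 0, h6.self 1, h6.ne (by decide)⟩) c.1 c.1 one_ne_zero
    (sub_ne_zero.2 e.symm) (.inl hq)
  have ha : B y a.1 = 0 := form_eq_zero_symm (h8.perp (form_eq_zero_symm (co_two.1 (h7 0)).1)
    (form_eq_zero_symm (co_two.1 (h7 1)).1))
  have hb : B y b.1 = 0 := h5.perp ha (form_eq_zero_symm (h8.perp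
    (form_eq_zero_symm (co_two.1 (h7 0)).2) (form_eq_zero_symm (co_two.1 (h7 1)).2)))
  have hc : C.R c ⟨y, h9⟩ := (h.R _ _).2 (.inl (by rwa [nm_form]))
  exact (h.T_perp (c := ⟨y, h9⟩) (by omega) h1 ha hb).cone
    (h.T_perp (by omega) hc (form_eq_zero_symm h2) (form_eq_zero_symm ha)).rot'
    (h.T_ne hb h3 hc fun e => h11 (by rw [nm_form, nm_form b.1]; linear_combination e))

lemma T_four (hn : 4 ≤ n) (hq : 4 ≤ q) (h1 : C.R a b) (h2 : C.R a c) (h3 : C.R b c) :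
    C.T a b c := h.T_of (by omega) h1 h2 h3 fun _ _ e => by
  obtain ⟨u, h4, h5⟩ := line (by omega) a.2 b.2 ((h.R _ _).1 h1)
  by_cases h6 : nm q (B c.1 a.1) + nm q (B c.1 u) = 1
  swap; · exact h.T _ _ _ h1 h2 h3 (pl_of_ne h4 (sp_left _ _) h5 c.2 h6)
  obtain ⟨v, h7, h8⟩ := line (by omega) b.2 c.2 ((h.R _ _).1 h3)
  obtain ⟨s, h9, h10⟩ := normalize (q := q) (r := B c.1 a.1 • b.1 + (-B b.1 a.1) • c.1) fun e' => by
    obtain ⟨x, y, h9⟩ := h5
    have h10 := b.2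
    have h11 : B b.1 a.1 = x := by
      simp [h9, form_add_left, form_smul_left, a.2, form_eq_zero_symm (on_two.1 h4).2.2]
    have h12 : B c.1 b.1 = cj q x * B c.1 a.1 + cj q y * B c.1 u := by
      rw [h9, form_add_right, form_smul_right, form_smul_right]
    simp only [form_add_left, form_add_right, form_smul_left, form_smul_right, b.2, c.2, h11,
      ← cj_form c.1 b.1, h12, map_add, map_mul, map_neg, cj_cj] at e' e
    rw [h9, form_two h4] at h10
    refine e ?_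
    simp only [nm, map_add, map_mul, cj_cj] at h6 ⊢
    linear_combination (x * cj q x + y * cj q y) * h6 + h10 - e' -
      (B c.1 a.1 * cj q (B c.1 a.1)) * h10 - x * cj q x * h6
  have h11 : Sp b.1 v (s • (B c.1 a.1 • b.1 + (-B b.1 a.1) • c.1)) := by
    simpa using ((sp_left _ _).comb h8 (B c.1 a.1) (-B b.1 a.1)).comb h8 s 0
  have h12 := h.T_line (c := ⟨_, h10⟩) (by omega) h7 (sp_left _ _) h8 h11
  have h13 : B (s • (B c.1 a.1 • b.1 + (-B b.1 a.1) • c.1)) a.1 = 0 := by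
    simp only [form_add_left, form_smul_left]; ring
  exact (h.T_four' hn hq h1 h13 h12.2.1).cone (h.T_four' hn hq h2 h13 h12.2.2.1) h12

lemma pent (hn : 3 ≤ n) (hq : 3 ≤ q) (a c d : UV F q n) (h1 : C.R c d) :
    ∃ f, C.R a f ∧ C.T c d f := by
  obtain ⟨u, h4, h5⟩ := line (by omega) c.2 d.2 ((h.R _ _).1 h1)
  obtain ⟨y, h8, h9, h10, -⟩ := exists_on_line h4 a.1 0 one_ne_zero one_ne_zero (.inr ⟨hq, rfl⟩)
  exact ⟨⟨y, h9⟩, (h.R _ _).2 (.inl (by rwa [nm_form])), h.T_line hn h4 (sp_left _ _) h5 h8⟩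

lemma pent_five (hn : 5 ≤ n) (a c d : UV F q n) (h1 : C.R c d) : ∃ f, C.R a f ∧ C.T c d f := by
  obtain ⟨u, h4, h5⟩ := line (by omega) c.2 d.2 ((h.R _ _).1 h1)
  obtain ⟨y, h6, h7, h8⟩ := h4.exists_perp' hn a.1
  obtain ⟨h9, h10⟩ := co_two.1 h7
  exact ⟨⟨y, h6⟩, h.perp' h8, h.T_perp (by omega) h1 h9 (h5.perp h9 h10)⟩

lemma quad_four (hn : 4 ≤ n) (hq : 4 ≤ q) (a b c d : UV F q n) (h1 : C.R a b) (h2 : C.R b c)
    (h3 : C.R a d) (h4 : C.R d c) : C.Via a c b d := by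
  obtain ⟨u, h5, h6⟩ := line (by omega) d.2 c.2 ((h.R _ _).1 h4)
  obtain ⟨y, h8, h9, h10, h11⟩ := exists_on_line h5 a.1 b.1 one_ne_zero one_ne_zero (.inl hq)
  have ha : C.R a ⟨y, h9⟩ := (h.R _ _).2 (.inl (by rwa [nm_form]))
  have hb : C.R b ⟨y, h9⟩ := (h.R _ _).2 (.inl (by rwa [nm_form]))
  have h12 := h.T_line (c := ⟨y, h9⟩) (by omega) h5 h6 (sp_left _ _) h8
  exact (Cov.via_of_T (h.T_four hn hq h1 ha hb) (h.T_four hn hq (C.R_symm h2) h12.2.1 hb)).trans
    (Cov.via_of_T (h.T_four hn hq h3 ha h12.2.2.1) h12).symm ha (C.R_symm h12.2.1)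

lemma quad_five (hn : 5 ≤ n) (hq : 3 ≤ q) (a b c d : UV F q n) (h1 : C.R a b) (h2 : C.R b c)
    (h3 : C.R a d) (h4 : C.R d c) : C.Via a c b d := by
  obtain ⟨u, h5, h6, h7⟩ := (on_one.2 a.2).exists_perp' (by omega) c.1
  have h6 := co_one.1 h6
  obtain ⟨v, h8, h9, h10⟩ := (on_two.2 ⟨a.2, h5, form_eq_zero_symm h6⟩).exists_perp' hn c.1
  obtain ⟨h9, h11⟩ := co_two.1 h9
  have h12 := on_two.2 ⟨h5, h8, form_eq_zero_symm h11⟩
  obtain ⟨y, e1, e2, e3, -⟩ := exists_on_line h12 b.1 0 one_ne_zero one_ne_zero (.inr ⟨hq, rfl⟩)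
  obtain ⟨z, f1, f2, f3, -⟩ := exists_on_line h12 d.1 0 one_ne_zero one_ne_zero (.inr ⟨hq, rfl⟩)
  have ha : ∀ y : UV F q n, Sp u v y.1 → C.R a y := fun y e =>
    h.perp (e.perp (form_eq_zero_symm h6) (form_eq_zero_symm h9))
  have hc : ∀ y : UV F q n, Sp u v y.1 → C.R c y := fun y e =>
    h.perp (e.perp (form_eq_zero_symm h7) (form_eq_zero_symm h10))
  have hb : C.R b ⟨y, e2⟩ := (h.R _ _).2 (.inl (by rwa [nm_form]))
  have hd : C.R d ⟨z, f2⟩ := (h.R _ _).2 (.inl (by rwa [nm_form]))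
  have hy : C.R ⟨y, e2⟩ ⟨z, f2⟩ := (h.R _ _).2 (adj_of_line h12 e1 f1 e2 f2)
  exact ((Cov.via_of_T (h.T_five hn h1 (ha _ e1) hb) (h.T_five hn (C.R_symm h2) (hc _ e1) hb)).trans
    (Cov.via_of_T (h.T_five hn (ha _ e1) (ha _ f1) hy) (h.T_five hn (hc _ e1) (hc _ f1) hy))
    (ha _ e1) (C.R_symm (hc _ e1))).trans (Cov.via_of_T (h.T_five hn h3 (ha _ f1) hd)
      (h.T_five hn (C.R_symm h4) (hc _ f1) hd)).symm (ha _ f1) (C.R_symm (hc _ f1))

theorem eq_of_reach (H : 4 ≤ n ∧ 4 ≤ q ∨ 5 ≤ n ∧ 3 ≤ q) {y z : Y}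
    (h1 : Relation.ReflTransGen C.A y z) (e : C.p z = C.p y) : z = y :=
  Cov.eq_of_reach (H.elim (fun H => h.quad_four H.1 H.2) fun H => h.quad_five H.1 H.2)
    (h.pent (by omega) (by omega)) h1 e

end Good

end H63.Phan
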