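import Mathlib
import Cfsg.Agent.Lib.Phan.Geo

/-!
The covering attached to an amalgam of unitary groups.
-/

set_option autoImplicit false
set_option linter.unusedSectionVars false

namespace H63.Phan

open Matrix Cfsg H11.U

variable {F : Type*} [Field F] [Fintype F] {q n k : ℕ} [IsSq F q]

local notation "B" => hermForm n F q
local notation "𝐞" i:max => (Pi.single i 1 : Fin 3 → F)

variable (q) in
/-- The stabiliser of a vector. -/
def fix (x : Fin n → F) : Subgroup (SU n F q) where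
  carrier := {g | g.1.1 *ᵥ x = x}
  mul_mem' := fun {a b} ha hb => by rw [Set.mem_ofPred, su_mul, hb, ha]
  one_mem' := su_one x
  inv_mem' := fun {a} ha => by rw [Set.mem_ofPred, ← ha, su_inv_mul, ha]

lemma mem_fix {x : Fin n → F} {g : SU n F q} : g ∈ fix q x ↔ g.1.1 *ᵥ x = x := Iff.rfl

lemma conj_mem_fix {x : Fin n → F} {g l : SU n F q} {c : F} (h : g.1.1 *ᵥ x = c • x)
    (hl : l ∈ fix q x) : g⁻¹ * l * g ∈ fix q x := by
  rw [mem_fix, su_mul, su_mul, h, mulVec_smul, hl, ← h, su_inv_mul]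

lemma isIso_diagonal {c : Fin n → F} (h : ∀ i, nm q (c i) = 1) : IsIso q (diagonal c) := fun u v => by
  simp only [form_def, mulVec_diagonal, map_mul]
  exact Finset.sum_congr rfl fun i _ => by
    have : c i * cj q (c i) = 1 := h i
    linear_combination (u i * cj q (v i)) * this

/-- Diagonal matrices. -/
def dg (c : Fin n → F) (h : ∀ i, nm q (c i) = 1) (hd : ∏ i, c i = 1) : SU n F q :=
  toSU (diagonal c) (isIso_diagonal h) (by rwa [det_diagonal])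

lemma dg_mulVec (c : Fin n → F) (h : ∀ i, nm q (c i) = 1) (hd : ∏ i, c i = 1) (u : Fin n → F)
    (i : Fin n) : ((dg c h hd).1.1 *ᵥ u) i = c i * u i := mulVec_diagonal _ _ _

lemma on_id : ON q fun i : Fin n => (Pi.single i 1 : Fin n → F) := on_std id Function.injective_id

lemma lc_id (x : Fin n → F) : lc (fun i : Fin n => (Pi.single i 1 : Fin n → F)) x = x := by
  ext i; simp [lc_eq, Pi.single_apply]

lemma emb_id (A : SU n F q) : on_id.emb A = A :=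
  su_ext fun x => by rw [← lc_id x, on_id.emb_lc, lc_id, lc_id]

lemma ON.commute {w : Fin k → Fin n → F} (h : ON q w) {g : SU n F q} (hg : ∀ i, g ∈ fix q (w i))
    (A : SU k F q) : Commute g (h.emb A) := by
  have := h.emb_conj g A
  rw [ON.emb_congr _ h (funext hg), mul_inv_eq_iff_eq_mul] at this
  exact this

lemma fix_zero_ext {l l' : SU 3 F q} (h : l ∈ fix q (𝐞 0)) (h' : l' ∈ fix q (𝐞 0))
    (h2 : l.1.1 *ᵥ (𝐞 2) = l'.1.1 *ᵥ (𝐞 2)) : l = l' := by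
  refine (inv_mul_eq_one.1 (eq_one_of_mem_suFixer (S := {1}) (by simp) fun i hi => ?_)).symm
  fin_cases i
  · exact mul_mem (inv_mem h') h
  · simp at hi
  · exact (su_mul _ _ _).trans (by erw [h2, su_inv_mul]; rfl)

lemma fix_zero_apply {l : SU 3 F q} (h : l ∈ fix q (𝐞 0)) : (l.1.1 *ᵥ (𝐞 2)) 0 = 0 := by
  have := su_form l (𝐞 2) (𝐞 0)
  rw [mem_fix.1 h, form_single_one_right, form_single_single] at this
  exact this

lemma ON.dec {w : Fin 3 → Fin n → F} (h : ON q w) (hn : 3 ≤ n) {x : Fin n → F} (hx : B x x = 1)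
    (ha : Adj q (w 2) x) : ∃ g ∈ fix q (w 2), ∃ l ∈ fix q (𝐞 0), (g * h.emb l).1.1 *ᵥ w 2 = x := by
  obtain ⟨u, h1, a, b, rfl⟩ := line (by omega) (h.self 2) hx ha
  obtain ⟨g, hg⟩ := (on_two.2 ⟨h.self 2, h.self 1, h.ne (by decide)⟩).exists_su h1 hn
  rw [form_two h1] at hx
  obtain ⟨l, hl⟩ := (on_two.2 ⟨on_id.self 0, on_id.self 2, on_id.ne (by decide)⟩).exists_su
    (w' := ![𝐞 0, ![0, b, a]]) ((on_two (q := q)).2 ⟨on_id.self 0, by
      simp [form_def, Fin.sum_univ_three, ← hx, add_comm], by simp [form_single_one_left]⟩) (by decide)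
  refine ⟨g, hg 0, l, hl 0, ?_⟩
  rw [su_mul, h.emb_w, show l.1.1 *ᵥ (𝐞 2) = ![0, b, a] from hl 1, lc_eq]
  simp [Fin.sum_univ_three, mulVec_add, mulVec_smul, show g.1.1 *ᵥ w 2 = w 2 from hg 0,
    show g.1.1 *ᵥ w 1 = u from hg 1, add_comm]

lemma conn (H : 3 ≤ n ∧ 3 ≤ q ∨ 4 ≤ n) {a c : Fin n → F} (ha : B a a = 1) :
    ∃ f, B f f = 1 ∧ Adj q a f ∧ Adj q f c := by
  rcases H with ⟨hn, hq⟩ | hn
  · obtain ⟨v, h1, h2⟩ := (on_one.2 ha).exists_ext (l := 2) hn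
    obtain ⟨y, h3, h4, h5, -⟩ := exists_on_line (u := v 0) (v := v 1)
      (on_two.2 ⟨h1.self 0, h1.self 1, h1.ne (by decide)⟩) c 0 one_ne_zero one_ne_zero (.inr ⟨hq, rfl⟩)
    exact ⟨y, h4, adj_of_perp (h3.perp (form_eq_zero_symm (co_one.1 (h2 0)))
      (form_eq_zero_symm (co_one.1 (h2 1)))), .inl h5⟩
  · obtain ⟨y, h1, h2, h3⟩ := (on_one.2 ha).exists_perp' hn c
    exact ⟨y, h1, adj_of_perp (form_eq_zero_symm (co_one.1 h2)), adj_of_perp h3⟩

lemma ON.gen {w : Fin 3 → Fin n → F} (h : ON q w) (H : 3 ≤ n ∧ 3 ≤ q ∨ 4 ≤ n)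
    {P : Subgroup (SU n F q)} (h1 : fix q (w 2) ≤ P) (h2 : ∀ l ∈ fix q (𝐞 0), h.emb l ∈ P) :
    P = ⊤ := by
  have h3 : ∀ g : SU n F q, Adj q (w 2) (g.1.1 *ᵥ w 2) → g ∈ P := fun g hg => by
    obtain ⟨g', h4, l, h5, h6⟩ := h.dec (by omega) (by rw [su_form, h.self]) hg
    have : (g' * h.emb l)⁻¹ * g ∈ P := h1 (by rw [mem_fix, su_mul, ← h6, su_inv_mul])
    simpa [mul_assoc] using mul_mem (mul_mem (h1 h4) (h2 l h5)) this
  refine eq_top_iff.2 fun g _ => ?_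
  obtain ⟨f, h4, h5, h6⟩ := conn H (c := g.1.1 *ᵥ w 2) (h.self 2)
  obtain ⟨g', rfl⟩ := (on_one.2 (h.self 2)).exists_su (on_one.2 h4) (by omega) |>.imp fun g hg => hg 0
  have : g'⁻¹ * g ∈ P := h3 _ (h6.imp (fun h6 => by rwa [su_mul, ← su_form g', su_mul_inv]) fun ⟨c, h6⟩ =>
    ⟨c, by rw [su_mul, h6, mulVec_smul]; erw [su_inv_mul]; rfl⟩)
  simpa using mul_mem (h3 g' h5) this

variable (F q n) in
/-- The data for one step of the amalgamation. -/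
structure Amal (E : Type*) [Group E] where
  /-- the frame -/
  w : Fin 3 → Fin n → F
  on : ON q w
  hn : 4 ≤ n
  /-- the projection -/
  π : E →* SU n F q
  /-- the lift of the stabiliser of a vector -/
  H : Subgroup E
  /-- the lift of the group of a plane -/
  ν : SU 3 F q →* E
  πν : ∀ m, π (ν m) = on.emb m
  le : ∀ γ ∈ H, π γ ∈ fix q (w 2)
  surj : ∀ h ∈ fix q (w 2), ∃ γ ∈ H, π γ = h
  inj : ∀ γ ∈ H, π γ = 1 → γ = 1
  c1 : ∀ m ∈ fix q (𝐞 2), ν m ∈ H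
  c2 : ∀ γ ∈ H, π γ ∈ fix q (w 1) → ∀ l ∈ fix q (𝐞 0), Commute γ (ν l)
  c3 : H ≤ (H ⊓ (fix q (w 1)).comap π) ⊔ (fix q (𝐞 2)).map ν

namespace Amal

variable {E : Type*} [Group E] (D : Amal F q n E)

lemma c3' {t : SU 3 F q} (h1 : t ∈ fix q (𝐞 0)) {c : F} (h2 : t.1.1 *ᵥ (𝐞 2) = c • 𝐞 2) {γ : E}
    (h : γ ∈ D.H) : (D.ν t)⁻¹ * γ * D.ν t ∈ D.H := by
  have : D.H ≤ D.H.comap (MulAut.conj (D.ν t)⁻¹).toMonoidHom := D.c3.trans (sup_le
    (fun γ h => by simpa [mul_assoc, (D.c2 γ h.1 h.2 t h1).eq] using h.1) (by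
      rintro _ ⟨u, hu, rfl⟩
      simpa using D.c1 _ (conj_mem_fix h2 hu)))
  simpa using this h

lemma uniq {l l' : SU 3 F q} (h1 : l ∈ fix q (𝐞 0)) (h2 : l' ∈ fix q (𝐞 0)) {γ : E} (h : γ ∈ D.H)
    (h3 : (D.π (D.ν l)).1.1 *ᵥ D.w 2 = (D.π (γ * D.ν l')).1.1 *ᵥ D.w 2) :
    (D.ν l)⁻¹ * (γ * D.ν l') ∈ D.H := by
  rw [map_mul, su_mul, D.πν, D.πν, D.on.emb_w, D.on.emb_w, lc_eq, lc_eq] at h3
  have h4 := fix_zero_apply h1
  have h5 := fix_zero_apply h2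
  set x := l.1.1 *ᵥ (𝐞 2) with hx
  set x' := l'.1.1 *ᵥ (𝐞 2) with hx'
  have h6 := D.le γ h
  simp only [Fin.sum_univ_three, h4, h5, zero_smul, zero_add, mulVec_add, mulVec_smul,
    mem_fix.1 h6] at h3
  have h7 : x 2 = x' 2 := by
    have := congrArg (B · (D.w 2)) h3
    simp only [form_add_left, form_smul_left] at this
    have h7 := su_form (D.π γ) (D.w 1) (D.w 2)
    rw [mem_fix.1 h6] at h7
    simpa [h7, D.on.ne (show (1 : Fin 3) ≠ 2 by decide), D.on.self] using this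
  rw [h7, add_left_inj] at h3
  by_cases h8 : x' 1 = 0
  · have h9 : x 1 = 0 := by
      simpa [h8, form_smul_left, D.on.self, form_zero_left] using congrArg (B · (D.w 1)) h3
    obtain rfl := fix_zero_ext h1 h2 (show x = x' from funext fun i => by
      fin_cases i <;> simp [h4, h5, h7, h8, h9])
    rw [← mul_assoc]
    exact D.c3' h1 (c := x 2) (show x = _ from funext fun i => by fin_cases i <;> simp [h4, h9]) h
  have h9 : (D.π γ).1.1 *ᵥ D.w 1 = (x 1 / x' 1) • D.w 1 := by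
    rw [div_eq_inv_mul, mul_smul, h3, smul_smul, inv_mul_cancel₀ h8, one_smul]
  generalize hc : x 1 / x' 1 = c at h9
  have h10 : c * cj q c = 1 := by
    have := su_form (D.π γ) (D.w 1) (D.w 1)
    rwa [h9, form_smul_left, form_smul_right, D.on.self, mul_one] at this
  let d : SU 3 F q := dg ![cj q c, c, 1] (fun i => by fin_cases i <;> simp [nm, cj_cj, mul_comm, h10])
    (by simp [Fin.prod_univ_three, mul_comm, h10])
  have hd : ∀ u, d.1.1 *ᵥ u = ![cj q c * u 0, c * u 1, u 2] := fun u => funext fun i => by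
    rw [dg_mulVec]; fin_cases i <;> simp
  have h11 : d ∈ fix q (𝐞 2) := (hd _).trans (funext fun i => by fin_cases i <;> simp)
  have h12 : (D.ν d)⁻¹ * γ ∈ D.H := mul_mem (inv_mem (D.c1 d h11)) h
  have h13 := D.c2 _ h12 (by
    rw [mem_fix, map_mul, su_mul, map_inv, h9, D.πν]
    conv_rhs => rw [← su_inv_mul (D.on.emb d) (D.w 1), D.on.emb_w, hd, lc_eq]
    simp [Fin.sum_univ_three]) l' h2
  have h14 : d⁻¹ * l * d = l' := fix_zero_ext
    (conj_mem_fix (c := cj q c) ((hd _).trans (funext fun i => by fin_cases i <;> simp)) h1) h2 (by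
      rw [su_mul, su_mul, h11, ← hx', ← su_inv_mul d x', hd, ← hx]
      congr 1; funext i; fin_cases i <;> simp [h4, h5, h7, ← hc, h8])
  have : (D.ν l)⁻¹ * (γ * D.ν l') = D.ν d * ((D.ν d)⁻¹ * γ) := by
    rw [← mul_inv_cancel_left (D.ν d) γ, mul_assoc (D.ν d), h13.eq, ← h14]; simp [mul_assoc]
  rw [this]; exact mul_mem (D.c1 d h11) h12

/-- The covering. -/
def cov : Cov (UV F q n) (E ⧸ D.H) where
  p y := Quotient.liftOn' y (fun γ => ⟨(D.π γ).1.1 *ᵥ D.w 2, by rw [su_form, D.on.self]⟩)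
    fun a b h => Subtype.ext (by
      have := D.le _ (QuotientGroup.leftRel_apply.1 h)
      simp only
      rw [← this, ← su_mul, ← map_mul, mul_inv_cancel_left, this])
  R a b := Adj q a.1 b.1
  A y z := ∃ γ l, l ∈ fix q (𝐞 0) ∧ y = (γ : E) ∧ z = (γ * D.ν l : E)
  R_symm {_ b} h := h.symm b.2
  refl y := by
    obtain ⟨γ, rfl⟩ := QuotientGroup.mk_surjective y
    exact ⟨γ, 1, one_mem _, rfl, by simp⟩
  symm := by
    rintro _ _ ⟨γ, l, h, rfl, rfl⟩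
    exact ⟨_, l⁻¹, inv_mem h, rfl, by simp⟩
  map := by
    rintro _ _ ⟨γ, l, h, rfl, rfl⟩
    refine adj_of_line (u := (D.π γ).1.1 *ᵥ D.w 2) (v := (D.π γ).1.1 *ᵥ D.w 1) (on_two.2
      ⟨by rw [su_form, D.on.self], by rw [su_form, D.on.self], by rw [su_form, D.on.ne (by decide)]⟩)
      (sp_left _ _) ⟨(l.1.1 *ᵥ (𝐞 2)) 2, (l.1.1 *ᵥ (𝐞 2)) 1, ?_⟩ ((su_form _ _ _).trans (D.on.self 2))
      ((su_form _ _ _).trans (D.on.self 2))
    change (D.π (γ * D.ν l)).1.1 *ᵥ D.w 2 = _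
    rw [map_mul, su_mul, D.πν, D.on.emb_w, lc_eq, Fin.sum_univ_three, fix_zero_apply h, zero_smul,
      zero_add, mulVec_add, mulVec_smul, mulVec_smul, add_comm]
  ex := by
    intro y x h
    obtain ⟨γ, rfl⟩ := QuotientGroup.mk_surjective y
    change Adj q ((D.π γ).1.1 *ᵥ D.w 2) _ at h
    obtain ⟨g, h1, l, h2, h3⟩ := D.on.dec (x := (D.π γ)⁻¹.1.1 *ᵥ x.1) (by have := D.hn; omega)
      (by rw [su_form, x.2]) (h.imp (fun h => by rwa [← su_form (D.π γ), su_mul_inv]) fun ⟨c, h⟩ =>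
        ⟨c, by rw [h, mulVec_smul, su_inv_mul]⟩)
    obtain ⟨δ, h4, rfl⟩ := D.surj g h1
    refine ⟨_, ⟨γ * δ, l, h2, QuotientGroup.eq.2 (by simpa using h4), rfl⟩, Subtype.ext ?_⟩
    change (D.π (γ * δ * D.ν l)).1.1 *ᵥ D.w 2 = _
    rw [mul_assoc, map_mul, map_mul, su_mul, D.πν, h3, su_mul_inv]
  uniq := by
    rintro _ _ _ ⟨γ, l, h, rfl, rfl⟩ ⟨γ', l', h', h1, rfl⟩ h2
    have h2 : (D.π (γ * D.ν l)).1.1 *ᵥ D.w 2 = (D.π (γ' * D.ν l')).1.1 *ᵥ D.w 2 := congrArg Subtype.val h2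
    have := D.uniq h h' (QuotientGroup.eq.1 h1) (by
      rw [mul_assoc, map_mul, su_mul, ← h2, map_mul, su_mul, map_inv, su_inv_mul])
    exact QuotientGroup.eq.2 (by simpa [mul_assoc] using this)

lemma cov_p (γ : E) : (D.cov.p γ).1 = (D.π γ).1.1 *ᵥ D.w 2 := rfl

variable (k) in
/-- Lifts of the groups of nondegenerate subspaces. -/
structure Flat where
  /-- the frame of the subspace -/
  v : Fin k → Fin n → F
  on : ON q v
  /-- the frame of the plane -/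
  w : Fin 3 → Fin k → F
  on' : ON q w
  hk : 3 ≤ k
  lt : k < n
  lc_w : ∀ i, lc v (w i) = D.w i
  /-- the lift -/
  κ : SU k F q →* E
  πκ : ∀ m, D.π (κ m) = on.emb m
  κν : ∀ m, κ (on'.emb m) = D.ν m
  le : ∀ m ∈ fix q (w 2), κ m ∈ D.H

/-- The plane as a flat. -/
def plane : D.Flat 3 where
  v := D.w
  on := D.on
  w i := 𝐞 i
  on' := on_id
  hk := le_rfl
  lt := D.hn
  lc_w := lc_single _
  κ := D.ν
  πκ := D.πν
  κν m := by rw [emb_id]
  le := D.c1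

variable {D}

lemma Flat.adj (Φ : D.Flat k) (γ : E) {m m' : SU k F q}
    (h : Adj q (m.1.1 *ᵥ Φ.w 2) (m'.1.1 *ᵥ Φ.w 2)) : D.cov.A (γ * Φ.κ m : E) (γ * Φ.κ m' : E) := by
  obtain ⟨g, h1, l, h2, h3⟩ := Φ.on'.dec (x := (m⁻¹ * m').1.1 *ᵥ Φ.w 2) Φ.hk
    (by rw [su_form, Φ.on'.self]) (h.imp (fun h => by rwa [← su_form m, su_mul, su_mul_inv])
      fun ⟨c, h⟩ => ⟨c, by rw [su_mul, h, mulVec_smul, su_inv_mul]⟩)
  refine ⟨γ * Φ.κ (m * g), l, h2, QuotientGroup.eq.2 (by simpa [mul_assoc] using Φ.le g h1),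
    (QuotientGroup.eq.2 ?_).symm⟩
  have := Φ.le ((g * Φ.on'.emb l)⁻¹ * (m⁻¹ * m')) (by rw [mem_fix, su_mul, ← h3, su_inv_mul])
  simpa [mul_assoc, Φ.κν] using this

lemma Flat.sect (Φ : D.Flat k) {v : Fin k → Fin n → F} (h : ON q v) (y : E ⧸ D.H) {x : Fin k → F}
    (hx : (D.cov.p y).1 = lc v x) : ∃ s : (Fin k → F) → E ⧸ D.H, s x = y ∧
      (∀ a, hermForm k F q a a = 1 → (D.cov.p (s a)).1 = lc v a) ∧ ∀ a b, hermForm k F q a a = 1 →
        hermForm k F q b b = 1 → Adj q (lc v a) (lc v b) → D.cov.A (s a) (s b) := by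
  have : ∀ a, ∃ m : SU k F q, hermForm k F q a a = 1 → m.1.1 *ᵥ Φ.w 2 = a := fun a => by
    by_cases ha : hermForm k F q a a = 1
    · exact ((on_one.2 (Φ.on'.self 2)).exists_su (on_one.2 ha) (by have := Φ.hk; omega)).imp
        fun m hm _ => hm 0
    · exact ⟨1, fun h => (ha h).elim⟩
  choose m hm using this
  obtain ⟨g, hg⟩ := Φ.on.exists_su h Φ.lt
  obtain ⟨γ, rfl⟩ := QuotientGroup.mk_surjective y
  have h1 : ∀ a, hermForm k F q a a = 1 → (g * Φ.on.emb (m a)).1.1 *ᵥ D.w 2 = lc v a := fun a ha => by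
    rw [su_mul, ← Φ.lc_w, Φ.on.emb_lc, hm a ha, mulVec_lc, funext hg]
  obtain ⟨δ, h2, h3⟩ := D.surj ((D.π γ)⁻¹ * (g * Φ.on.emb (m x))) (by
    rw [mem_fix, su_mul, h1 x (by rw [← h.form, ← hx, (D.cov.p γ).2]), ← hx, cov_p, su_inv_mul])
  refine ⟨fun a => (γ * δ * (Φ.κ (m x))⁻¹ * Φ.κ (m a) : E), (QuotientGroup.eq.2 (by simpa using h2)).symm,
    fun a ha => ?_, fun a b ha hb hab => Φ.adj _ ?_⟩
  · rw [cov_p, ← h1 a ha]; simp [h3, Φ.πκ]
  · rw [hm a ha, hm b hb]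
    exact hab.imp (fun e => by rwa [h.form] at e) fun ⟨c, e⟩ => ⟨c, h.lc_inj (by rw [e, lc_smul])⟩

variable (D)

lemma good : Good D.cov where
  R _ _ := Iff.rfl
  T a b c h1 h2 h3 := by
    rintro ⟨v, h, x, y, z, ha, hb, hc⟩
    refine ⟨h1, h2, h3, ?_⟩
    rintro Y Z W rfl rfl rfl h4 h5
    obtain ⟨s, rfl, h6, h7⟩ := D.plane.sect h Y ha
    have hx : hermForm 3 F q x x = 1 := by rw [← h.form, ← ha, Subtype.property (D.cov.p _)]
    have hy : hermForm 3 F q y y = 1 := by rw [← h.form, ← hb, Subtype.property (D.cov.p _)]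
    have hz : hermForm 3 F q z z = 1 := by rw [← h.form, ← hc, Subtype.property (D.cov.p _)]
    rw [D.cov.uniq h4 (h7 x y hx hy (by rw [← ha, ← hb]; exact h1)) (Subtype.ext (by rw [hb, h6 y hy])),
      D.cov.uniq h5 (h7 x z hx hz (by rw [← ha, ← hc]; exact h2)) (Subtype.ext (by rw [hc, h6 z hz]))]
    exact h7 y z hy hz (by rw [← hb, ← hc]; exact h3)

lemma reach_smul (γ : E) {y z : E ⧸ D.H} (h : Relation.ReflTransGen D.cov.A y z) :
    Relation.ReflTransGen D.cov.A (γ • y) (γ • z) :=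
  h.lift (γ • ·) (by rintro _ _ ⟨δ, l, h, rfl, rfl⟩; exact ⟨γ * δ, l, h, rfl, by simp [mul_assoc]⟩)

/-- The connected component of the base point. -/
def S : Subgroup E where
  carrier := {γ | Relation.ReflTransGen D.cov.A (1 : E) γ}
  one_mem' := .refl
  mul_mem' := fun {a b} ha hb => ha.trans (by simpa using D.reach_smul a hb)
  inv_mem' := fun {a} ha => by
    have : Std.Symm D.cov.A := ⟨fun _ _ => D.cov.symm⟩
    simpa using D.reach_smul a⁻¹ (Std.Symm.symm _ _ ha)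

lemma le_S : D.H ≤ D.S := fun γ h => by
  change Relation.ReflTransGen _ _ _
  rw [QuotientGroup.eq.2 (show (1 : E)⁻¹ * γ ∈ D.H by simpa)]

lemma Flat.mem_S {D : Amal F q n E} (Φ : D.Flat k) (H : 3 ≤ q ∨ 4 ≤ k) (m : SU k F q) :
    Φ.κ m ∈ D.S := by
  obtain ⟨f, h4, h5, h6⟩ := conn (H.imp_left fun h => ⟨Φ.hk, h⟩) (c := m.1.1 *ᵥ Φ.w 2) (Φ.on'.self 2)
  obtain ⟨g, rfl⟩ := (on_one.2 (Φ.on'.self 2)).exists_su (on_one.2 h4) (by have := Φ.hk; omega)
    |>.imp fun g hg => hg 0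
  have h1 := Φ.adj 1 (m := 1) (m' := g) (by rwa [su_one])
  have h2 := Φ.adj 1 (m := g) (m' := m) h6
  simp only [map_one, one_mul] at h1 h2
  exact (Relation.ReflTransGen.single h1).tail h2

theorem exists_section (h : ∀ y z, Relation.ReflTransGen D.cov.A y z → D.cov.p z = D.cov.p y → z = y) :
    ∃ σ : SU n F q →* E, ∀ γ ∈ D.S, σ (D.π γ) = γ := by
  have h1 : Function.Bijective (D.π.comp D.S.subtype) := ⟨(injective_iff_map_eq_one _).2 fun γ e => by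
    have := QuotientGroup.eq.1 (h _ _ γ.2 (Subtype.ext (by
      rw [cov_p, cov_p, map_one]; exact congrArg (·.1.1 *ᵥ D.w 2) e))).symm
    exact Subtype.ext (D.inj _ (by simpa using this) e), by
    rw [← MonoidHom.range_eq_top]
    refine D.on.gen (.inr D.hn) (fun g hg => ?_) fun l hl => ⟨⟨D.ν l, ?_⟩, D.πν l⟩
    · obtain ⟨γ, h1, h2⟩ := D.surj g hg
      exact ⟨⟨γ, D.le_S h1⟩, h2⟩
    · exact .single ⟨1, l, hl, rfl, by simp⟩⟩
  exact ⟨D.S.subtype.comp (MulEquiv.ofBijective _ h1).symm.toMonoidHom, fun γ hγ =>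
    congrArg Subtype.val ((MulEquiv.ofBijective _ h1).symm_apply_apply ⟨γ, hγ⟩)⟩

theorem exists_section' (H : 4 ≤ q ∨ 5 ≤ n ∧ 3 ≤ q) :
    ∃ σ : SU n F q →* E, (∀ γ ∈ D.H, σ (D.π γ) = γ) ∧ ∀ m, σ (D.on.emb m) = D.ν m := by
  obtain ⟨σ, h⟩ := D.exists_section fun _ _ => D.good.eq_of_reach (H.imp_left fun h => ⟨D.hn, h⟩)
  exact ⟨σ, fun γ hγ => h γ (D.le_S hγ), fun m => by
    rw [← D.πν]; exact h _ (D.plane.mem_S (.inl (by omega)) m)⟩

end Amal

end H63.Phan
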