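import Mathlib
import Cfsg.Agent.Lib.Phan.Step

/-!
Block subgroups of the special unitary groups and the amalgamation theorem.
-/

set_option autoImplicit false
set_option linter.unusedSectionVars false

namespace H63.Phan

open Matrix Cfsg H11.U

variable {F : Type*} [Field F] [Fintype F] {q n k l : ℕ} [IsSq F q]

local notation "𝐞" i:max => (Pi.single i 1 : Fin _ → F)

lemma on_blk (i : ℕ) (h : i + k ≤ n) : ON q fun j : Fin k => (𝐞 (⟨i + j, by omega⟩ : Fin n)) :=
  on_std (fun j : Fin k => (⟨i + j, by omega⟩ : Fin n)) fun a b e => by simpa [Fin.ext_iff] using e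

/-- The block on the coordinates `i, …, i + k - 1`. -/
def blk (i : ℕ) (h : i + k ≤ n) : SU k F q →* SU n F q := (on_blk i h).emb

lemma blk_inj (i : ℕ) (h : i + k ≤ n) : Function.Injective (blk (F := F) (q := q) i h) :=
  (on_blk i h).emb_inj

lemma blk_blk (i j : ℕ) (h : i + k ≤ n) (h' : j + l ≤ k) (A : SU l F q) :
    blk i h (blk j h' A) = blk (i + j) (by omega) A :=
  (ON.emb_comp _ _ A).trans (DFunLike.congr_fun (ON.emb_congr _ _ (funext fun t => by
    simp [lc_single, add_assoc])) A)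

lemma blk_congr {i j : ℕ} (e : i = j) (h : i + k ≤ n) (A : SU k F q) :
    blk i h A = blk j (by omega) A := by subst e; rfl

lemma blk_id (h : 0 + n ≤ n) (A : SU n F q) : blk 0 h A = A :=
  (DFunLike.congr_fun (ON.emb_congr _ on_id (funext fun t => by simp)) A).trans (emb_id A)

lemma blk_mem_fix (i : ℕ) (h : i + k ≤ n) (A : SU k F q) {j : Fin n} (hj : j < i ∨ i + k ≤ j) :
    blk i h A ∈ fix q (𝐞 j) := (on_blk i h).emb_perp A (funext fun t => by
  rw [co, form_single_single, if_neg (by simp [Fin.ext_iff]; omega)]; rfl)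

lemma exists_blk (i : ℕ) (h : i + k ≤ n) {g : SU n F q}
    (hg : ∀ j : Fin n, j < i ∨ i + k ≤ j → g ∈ fix q (𝐞 j)) : ∃ A, blk i h A = g :=
  (on_blk i h).mem_range.2 fun x hx => by
    rw [← lc_id x, mulVec_lc, lc_eq, lc_eq]
    refine Finset.sum_congr rfl fun j _ => ?_
    by_cases hj : j < i ∨ i + k ≤ j
    · rw [hg j hj]
    · have := congrFun hx ⟨j - i, by omega⟩
      rw [co, form_single_one_right] at this
      rw [show x j = 0 by rwa [show j = ⟨i + (j - i), by omega⟩ from Fin.ext (by simp; omega)],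
        zero_smul, zero_smul]

lemma blk_fix {i : ℕ} {h : i + k ≤ n} {A : SU k F q} {j : Fin k}
    (hj : blk i h A ∈ fix q (𝐞 (⟨i + j, by omega⟩ : Fin n))) : A ∈ fix q (𝐞 j) :=
  (on_blk (q := q) i h).lc_inj (by rw [← (on_blk i h).emb_w, lc_single]; exact hj)

lemma blk_commute {i j : ℕ} (h : i + k ≤ n) (h' : j + l ≤ n) (e : i + k ≤ j) (A : SU k F q)
    (A' : SU l F q) : Commute (blk i h A) (blk j h' A') :=
  (on_blk j h').commute (fun t => blk_mem_fix i h A (.inr (by simp; omega))) A'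

/-- The upper block. -/
abbrev up : SU 2 F q →* SU 3 F q := blk 0 (by decide)

/-- The lower block. -/
abbrev lo : SU 2 F q →* SU 3 F q := blk 1 (by decide)

lemma exists_up {g : SU 3 F q} (h : g ∈ fix q (𝐞 2)) : ∃ A, up A = g :=
  exists_blk 0 _ fun j hj => by rwa [show j = 2 by omega]

lemma exists_lo {g : SU 3 F q} (h : g ∈ fix q (𝐞 0)) : ∃ A, lo A = g :=
  exists_blk 1 _ fun j hj => by rwa [show j = 0 by omega]

lemma exists_first {g : SU (n + 1) F q} (h : g ∈ fix q (𝐞 (⟨n, by omega⟩ : Fin (n + 1)))) :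
    ∃ A : SU n F q, blk 0 (by omega) A = g :=
  exists_blk 0 _ fun j hj => by rwa [show j = ⟨n, by omega⟩ from Fin.ext (by simp; omega)]

lemma gen_step (H : 3 ≤ q ∨ 1 ≤ n) {P : Subgroup (SU (n + 3) F q)}
    (h1 : ∀ A : SU (n + 2) F q, blk 0 (by omega) A ∈ P)
    (h2 : ∀ A : SU 2 F q, blk (n + 1) (by omega) A ∈ P) : P = ⊤ :=
  (on_blk (k := 3) n le_rfl).gen (by omega) (fun g hg => by
    obtain ⟨A, rfl⟩ := exists_first hg; exact h1 A) fun l hl => by
    obtain ⟨A, rfl⟩ := exists_lo hl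
    exact (blk_blk n 1 le_rfl _ A).symm ▸ h2 A

lemma gen_two (hq : 3 ≤ q) {P : Subgroup (SU (n + 2) F q)}
    (h : ∀ i h (A : SU 2 F q), blk i h A ∈ P) : P = ⊤ := by
  induction n with
  | zero => exact eq_top_iff.2 fun A _ => blk_id _ A ▸ h 0 le_rfl A
  | succ n ih =>
    refine gen_step (.inl hq) (fun A => ?_) (h _ _)
    have := ih (P := P.comap (blk 0 (by omega))) fun i hi A => by
      rw [Subgroup.mem_comap, blk_blk]; exact h _ _ _
    exact (this.ge (Subgroup.mem_top A) :)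

variable {G : Type*} [Group G]

/-- The amalgam of one induction step. -/
def amal (H : 3 ≤ q ∨ 1 ≤ n) (ψ : SU (n + 3) F q →* G) (μ : SU 3 F q →* G)
    (h1 : ∀ A, ψ (blk (n + 1) (by omega) A) = μ (up A))
    (h2 : ∀ (A : SU (n + 2) F q) A', Commute (ψ (blk 0 (by omega) A)) (μ (lo A'))) :
    Amal F q (n + 4) (SU (n + 4) F q × G) where
  w := _
  on := on_blk (k := 3) (n + 1) le_rfl
  hn := by omega
  π := .fst _ _
  H := ((blk 0 (by omega)).prod ψ).range
  ν := (blk (n + 1) le_rfl).prod μ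
  πν _ := rfl
  le := by rintro _ ⟨A, rfl⟩; exact blk_mem_fix 0 (by omega) A (.inr (by simp))
  surj g hg := by obtain ⟨A, rfl⟩ := exists_first hg; exact ⟨_, ⟨A, rfl⟩, rfl⟩
  inj := by
    rintro _ ⟨A, rfl⟩ h
    rw [(injective_iff_map_eq_one _).1 (blk_inj 0 (by omega)) A h, map_one]
  c1 m hm := by
    obtain ⟨A, rfl⟩ := exists_up hm
    exact ⟨blk (n + 1) (by omega) A, Prod.ext (by simp [blk_blk]) (h1 A)⟩
  c2 := by
    rintro _ ⟨A, rfl⟩ h l hl
    obtain ⟨A', rfl⟩ := exists_lo hl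
    obtain ⟨A, rfl⟩ := exists_first (blk_fix (i := 0) (h := (by omega : 0 + (n + 3) ≤ n + 4))
      (j := ⟨n + 2, by omega⟩) (by simpa using h))
    exact Prod.ext (by simpa [blk_blk] using (blk_commute _ _ (by omega) A A').eq) (h2 A A')
  c3 := by
    rintro _ ⟨A, rfl⟩
    refine Subgroup.mem_comap.1 ((gen_step H (fun A => ?_) fun A => ?_).ge (Subgroup.mem_top A))
    · exact Subgroup.mem_sup_left ⟨⟨_, rfl⟩, by
        simpa [blk_blk] using blk_mem_fix 0 _ A (.inr (by simp))⟩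
    · exact Subgroup.mem_sup_right ⟨up A, blk_mem_fix _ _ _ (.inr (by simp)),
        Prod.ext (by simp [blk_blk]) (h1 A).symm⟩

theorem step (H : 4 ≤ q ∨ 1 ≤ n ∧ 3 ≤ q) (ψ : SU (n + 3) F q →* G) (μ : SU 3 F q →* G)
    (h1 : ∀ A, ψ (blk (n + 1) (by omega) A) = μ (up A))
    (h2 : ∀ (A : SU (n + 2) F q) A', Commute (ψ (blk 0 (by omega) A)) (μ (lo A'))) :
    ∃ φ : SU (n + 4) F q →* G, (∀ A, φ (blk 0 (by omega) A) = ψ A) ∧
      ∀ A, φ (blk (n + 1) le_rfl A) = μ A := by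
  obtain ⟨σ, h3, h4⟩ := (amal (by omega) ψ μ h1 h2).exists_section' (by omega)
  exact ⟨(MonoidHom.snd _ _).comp σ, fun A => congrArg Prod.snd (h3 _ ⟨A, rfl⟩),
    fun A => congrArg Prod.snd (h4 A)⟩

end H63.Phan
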