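import Mathlib
import Cfsg.Agent.S0281
import Cfsg.Agent.Lib.AutCl.PSLAut
import Cfsg.Agent.Lib.AutCl.Galois
import Cfsg.Agent.Lib.Phan.Blk

/-!
Automorphisms of `SU₂(q)` and standard pairs.
-/

set_option autoImplicit false
set_option linter.unusedSectionVars false

namespace H63.Phan

open Matrix Cfsg H11.U

variable {F : Type*} [Field F] [Fintype F] {q n : ℕ} [IsSq F q]

lemma map_cj (θ : F ≃+* F) (x : F) : θ (cj q x) = cj q (θ x) := map_pow θ x q

/-- Diagonal and field automorphisms. -/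
def saut (c : Fin n → F) (hc : ∀ i, nm q (c i) = 1) (θ : F ≃+* F) : SU n F q →* SU n F q :=
  MonoidHom.mk' (fun A => toSU (diagonal c * A.1.1.map θ * diagonal fun i => cj q (c i))
    (((isIso_diagonal hc).mul (isIso_iff.2 (by
      rw [← Matrix.map_one θ (map_zero θ) (map_one θ), ← isIso_iff.1 A.2, Matrix.map_mul]
      congr 1; ext; exact (map_cj θ _).symm))).mul (isIso_diagonal fun i => by rw [nm_cj, hc]))
    (by
      rw [det_mul, det_mul, ← RingEquiv.mapMatrix_apply, ← RingEquiv.map_det, A.1.2, map_one, mul_one,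
        det_diagonal, det_diagonal, ← Finset.prod_mul_distrib]
      exact Finset.prod_eq_one fun i _ => hc i))
  fun A A' => Subtype.ext (Subtype.ext (by
    change diagonal c * (A.1.1 * A'.1.1).map θ * _ =
      diagonal c * A.1.1.map θ * _ * (diagonal c * A'.1.1.map θ * _)
    have : (diagonal fun i => cj q (c i)) * diagonal c = 1 := by
      rw [diagonal_mul_diagonal, ← diagonal_one]; congr 1; ext i; rw [mul_comm]; exact hc i
    rw [Matrix.map_mul]
    simp only [Matrix.mul_assoc]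
    rw [← Matrix.mul_assoc _ (diagonal c), this, Matrix.one_mul]))

lemma saut_apply (c : Fin n → F) (hc : ∀ i, nm q (c i) = 1) (θ : F ≃+* F) (A : SU n F q)
    (i j : Fin n) : (saut c hc θ A).1.1 i j = c i * θ (A.1.1 i j) * cj q (c j) := by
  change (diagonal c * A.1.1.map θ * diagonal fun i => cj q (c i)) i j = _
  simp

lemma su_ext' {A A' : SU n F q} (h : ∀ i j, A.1.1 i j = A'.1.1 i j) : A = A' :=
  Subtype.ext (Subtype.ext (Matrix.ext h))

lemma nm_ne {c : F} (h : nm q c = 1) : c ≠ 0 := by rintro rfl; simp at h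

lemma saut_bij (c : Fin n → F) (hc : ∀ i, nm q (c i) = 1) (θ : F ≃+* F) :
    Function.Bijective (saut c hc θ) := Finite.injective_iff_bijective.1 fun A A' h => su_ext' fun i j => by
  have := congrArg (·.1.1 i j) h
  simpa [saut_apply, nm_ne (hc _)] using this

lemma blk_val {k : ℕ} (i : ℕ) (h : i + k ≤ n) (A : SU k F q) : (blk i h A).1.1 =
    1 + (of fun j : Fin k => (Pi.single (⟨i + j, by omega⟩ : Fin n) 1 : Fin n → F))ᵀ * ((A.1.1 - 1) *
      (of fun j : Fin k => (Pi.single (⟨i + j, by omega⟩ : Fin n) 1 : Fin n → F)).map (cj q)) := rfl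

lemma up_val (A : SU 2 F q) :
    (up A).1.1 = !![A.1.1 0 0, A.1.1 0 1, 0; A.1.1 1 0, A.1.1 1 1, 0; 0, 0, 1] := by
  rw [blk_val]
  ext i j; fin_cases i <;> fin_cases j <;> simp [Matrix.mul_apply]

lemma lo_val (A : SU 2 F q) :
    (lo A).1.1 = !![1, 0, 0; 0, A.1.1 0 0, A.1.1 0 1; 0, A.1.1 1 0, A.1.1 1 1] := by
  rw [blk_val]
  ext i j; fin_cases i <;> fin_cases j <;> simp [Matrix.mul_apply]

lemma saut_up (c : Fin 3 → F) (hc : ∀ i, nm q (c i) = 1) (θ : F ≃+* F) (A : SU 2 F q) :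
    saut c hc θ (up A) = up (saut ![c 0, c 1] (fun i => by fin_cases i <;> simp [hc]) θ A) :=
  su_ext' fun i j => by
    rw [saut_apply, up_val, up_val]
    fin_cases i <;> fin_cases j <;> simp [saut_apply]
    exact hc 2

lemma saut_lo (c : Fin 3 → F) (hc : ∀ i, nm q (c i) = 1) (θ : F ≃+* F) (A : SU 2 F q) :
    saut c hc θ (lo A) = lo (saut ![c 1, c 2] (fun i => by fin_cases i <;> simp [hc]) θ A) :=
  su_ext' fun i j => by
    rw [saut_apply, lo_val, lo_val]
    fin_cases i <;> fin_cases j <;> simp [saut_apply]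
    exact hc 0

lemma su_two (A : SU 2 F q) : cj q (A.1.1 0 0) = A.1.1 1 1 ∧ cj q (A.1.1 1 0) = -A.1.1 0 1 ∧
    cj q (A.1.1 0 1) = -A.1.1 1 0 ∧ cj q (A.1.1 1 1) = A.1.1 0 0 ∧
    A.1.1 0 0 * A.1.1 1 1 - A.1.1 0 1 * A.1.1 1 0 = 1 := by
  have h := isIso_iff.1 A.2
  have h0 := congrFun (congrFun h 0) 0
  have h1 := congrFun (congrFun h 1) 0
  have h2 := A.1.2
  rw [det_fin_two] at h2
  simp [Matrix.mul_apply] at h0 h1
  have h3 : cj q (A.1.1 0 0) = A.1.1 1 1 := by
    linear_combination A.1.1 1 1 * h0 - A.1.1 1 0 * h1 - cj q (A.1.1 0 0) * h2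
  have h4 : cj q (A.1.1 1 0) = -A.1.1 0 1 := by
    linear_combination A.1.1 0 0 * h1 - A.1.1 0 1 * h0 - cj q (A.1.1 1 0) * h2
  exact ⟨h3, h4, by rw [← neg_neg (A.1.1 0 1), ← h4, map_neg, cj_cj], by rw [← h3, cj_cj], h2⟩

/-- The elements of `SU₂`. -/
def su2 (a b : F) (h : nm q a + nm q b = 1) : SU 2 F q :=
  toSU !![a, b; -cj q b, cj q a] (isIso_iff.2 (by
    ext i j; fin_cases i <;> fin_cases j <;> simp [Matrix.mul_apply, cj_cj, mul_comm, ← h, nm, add_comm]))
    (by simpa [det_fin_two, nm] using h)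

lemma su2_val (a b : F) (h : nm q a + nm q b = 1) : (su2 a b h).1.1 = !![a, b; -cj q b, cj q a] := rfl

lemma tv_pow {v : Fin n → F} {c : F} (hv : hermForm n F q v v = 0) (hc : cj q c = -c) (k : ℕ) :
    tv q v c ^ k = tv q v (k * c) := by
  induction k with
  | zero => simp [tv_zero]
  | succ k ih => rw [pow_succ, ih, tv_mul hv (by simp [hc]) hc]; simp [add_mul]

lemma exists_sl_equiv : ∃ (P : GL (Fin 2) F) (φ : SpecialLinearGroup (Fin 2) (fixedField F q) ≃* SU 2 F q),
    ∀ A, (φ A).1.1 * P = P * A.1.map (fixedField F q).subtype := by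
  obtain ⟨d, hd0, hd⟩ := exists_trace_zero F q
  obtain ⟨u, -, hu, hu0⟩ := (nondeg_top (F := F) (q := q) (n := 2)).exists_isotropic (by simp)
  obtain ⟨v, -, hv0, huv⟩ := nondeg_top.exists_partner trivial hu hu0 d hd0
  have hvu : hermForm 2 F q v u = -d := by rw [form_swap, huv, hd]
  have h1 : ∀ x y, hermForm 2 F q (lc ![u, v] x) (lc ![u, v] y) =
      d * (x 0 * cj q (y 1) - x 1 * cj q (y 0)) := fun x y => by
    simp only [lc_two, form_add_left, form_add_right, form_smul_left, form_smul_right, *]; ring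
  obtain ⟨P, hP⟩ : IsUnit (of ![u, v])ᵀ := by
    rw [← mulVec_injective_iff_isUnit]
    refine (injective_iff_map_eq_zero (mulVecLin _)).2 fun x (hx : lc ![u, v] x = 0) => ?_
    have h2 := h1 x ![0, 1]
    have h3 := h1 x ![1, 0]
    simp [hx, form_zero_left, hd0] at h2 h3
    ext i; fin_cases i <;> simp [*]
  have h2 : ∀ x, lc ![u, v] x = P.1 *ᵥ x := fun x => by rw [hP, lc]
  let f : SpecialLinearGroup (Fin 2) (fixedField F q) →* SU 2 F q := MonoidHom.mk'
    (fun A => toSU (P.1 * A.1.map (fixedField F q).subtype * (P⁻¹).1) (fun x y => by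
      have h3 := congrArg (fixedField F q).subtype A.2
      rw [det_fin_two] at h3
      conv_rhs => rw [← one_mulVec x, ← one_mulVec y, ← P.mul_inv]
      simp only [← mulVec_mulVec, ← h2, h1]
      generalize (P⁻¹).1 *ᵥ x = x, (P⁻¹).1 *ᵥ y = y
      simp [mulVec, dotProduct, fun i j => mem_fixedField.1 (A.1 i j).2] at h3 ⊢
      exact .inl (by linear_combination (x 0 * cj q (y 1) - x 1 * cj q (y 0)) * h3))
      (by rw [det_units_conj, ← RingHom.mapMatrix_apply, ← RingHom.map_det, A.2, map_one]))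
    fun A A' => Subtype.ext (Subtype.ext (by
      change P.1 * (A.1 * A'.1).map _ * _ = P.1 * A.1.map _ * _ * (P.1 * A'.1.map _ * _)
      rw [Matrix.map_mul]; simp [Matrix.mul_assoc]))
  have hf : ∀ A, (f A).1.1 * P = P * A.1.map (fixedField F q).subtype := fun A => by
    change P.1 * A.1.map _ * _ * _ = _
    simp [Matrix.mul_assoc]
  have := Fintype.ofFinite (fixedField F q)
  obtain ⟨e⟩ := Cfsg.Agent.S0281.result (K := fixedField F q) (IsSq.card_eq (F := F) (q := q))
    (by rw [← Nat.card_eq_fintype_card, card_fixedField])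
  refine ⟨P, .ofBijective f ((Nat.bijective_iff_injective_and_card f).2
    ⟨fun A A' h => Subtype.ext (Matrix.map_injective (fixedField F q).subtype.injective ?_),
      (Nat.card_congr e.toEquiv).symm⟩), hf⟩
  exact P.isUnit.mul_left_cancel (by rw [← hf, h, hf])

open H67 in
theorem aut_two (α : SU 2 F q →* SU 2 F q) (hα : Function.Injective α) :
    ∃ (h : GL (Fin 2) F) (θ : F ≃+* F), ∀ x, (α x).1.1 * h = h * x.1.1.map θ := by
  obtain ⟨P, φ, hφ⟩ := exists_sl_equiv (F := F) (q := q)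
  obtain ⟨p, k, hp, hc, hq, -⟩ := exists_char_pow F q
  have := Fact.mk hp
  have := Fintype.ofFinite (fixedField F q)
  let β := φ.trans ((MulEquiv.ofBijective α (Finite.injective_iff_bijective.1 hα)).trans φ.symm)
  obtain ⟨g, τ, h | h⟩ := psl_aut (by simp) (quotAut β)
  swap; · simp at h
  obtain ⟨j, -, hj⟩ := ringAut_eq_pow (card_fixedField.trans hq) τ
  let γ := resAut toGL_inj (⟨MulAut.conj g, conj_mem_stab_sl g⟩ * ⟨glField _ τ, field_mem_stab_sl τ⟩)
  have h1 : quotAut β = quotAut γ := by rw [h, pslInn_eq, pslField_eq, ← map_mul]; rfl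
  have h2 : (β.toMonoidHom.comp φ.symm.toMonoidHom).eqLocus
      (γ.toMonoidHom.comp φ.symm.toMonoidHom) = ⊤ := eq_top_of_tv_mem (.inl (by decide))
    fun w _ hw c hc => by
      have h3 : Uni p (tv q w c) := ⟨1, by simp [tv_pow hw hc, tv_zero]⟩
      exact Rel.uni_unique (β := quotAut β) sl_centerOK rfl (h1 ▸ rfl) (h3.map _) (h3.map _)
  let θ := iterateFrobeniusEquiv F p j
  refine ⟨P * g.map (fixedField F q).subtype * (glField _ θ P)⁻¹, θ, fun x => ?_⟩
  have h3 : β (φ.symm x) = γ (φ.symm x) := (h2.ge (Subgroup.mem_top x) :)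
  obtain ⟨A, rfl⟩ := φ.surjective x
  rw [φ.symm_apply_apply] at h3
  have h4 : (β A).1 * g = g * A.1.map τ := by
    have : (γ A).1 = g.1 * A.1.map τ * (g⁻¹).1 := congrArg Units.val (j_resAut toGL_inj _ A)
    rw [h3, this]; simp
  have h5 := congrArg (·.map θ) (hφ A)
  have h6 := congrArg (·.map (fixedField F q).subtype) h4
  have h7 : (A.1.map τ).map (fixedField F q).subtype = (A.1.map (fixedField F q).subtype).map θ := by
    ext a b; simp [hj, θ, iterateFrobenius_def]
  simp only [Matrix.map_mul, h7] at h5 h6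
  rw [show α (φ A) = φ (β A) by simp [β], Units.val_mul, Units.val_mul, ← Matrix.mul_assoc,
    ← Matrix.mul_assoc, hφ, Matrix.mul_assoc P.1]
  erw [h6]
  rw [Units.mul_inv_eq_iff_eq_mul, Matrix.mul_assoc, glField_coe, h5,
    Matrix.mul_assoc (P.1 * _), ← glField_coe, Units.inv_mul_cancel_left, ← Matrix.mul_assoc]
  rfl

lemma saut_of_diag {α : SU 2 F q →* SU 2 F q} {a b : F} (ha : a ≠ 0) {θ : F ≃+* F}
    (h : ∀ x, (α x).1.1 * !![a, 0; 0, b] = !![a, 0; 0, b] * x.1.1.map θ) :
    ∃ c hc, α = saut ![1, c] hc θ := by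
  have h1 : ∀ x i j, (α x).1.1 i j * ![a, b] j = ![a, b] i * θ (x.1.1 i j) := fun x i j => by
    have := congrFun (congrFun (h x) i) j
    fin_cases i <;> fin_cases j <;> simpa [Matrix.mul_apply] using this
  have h2 : b / a * cj q (b / a) = 1 := by
    obtain ⟨-, h2, -⟩ := su_two (α (su2 0 1 (by simp [nm])))
    have h3 := h1 (su2 0 1 (by simp [nm])) 0 1
    have h4 := h1 (su2 0 1 (by simp [nm])) 1 0
    simp [su2_val] at h3 h4
    rw [show b / a = -(α (su2 0 1 (by simp [nm]))).1.1 1 0 by field_simp; linear_combination h4,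
      map_neg, h2]
    exact mul_right_cancel₀ ha (by linear_combination h3 - (α (su2 0 1 (by simp [nm]))).1.1 0 1 * h4)
  have hb : b ≠ 0 := by rintro rfl; simp at h2
  refine ⟨b / a, fun i => by fin_cases i <;> simp [nm, -map_div₀, h2], MonoidHom.ext fun x =>
    su_ext' fun i j => ?_⟩
  rw [saut_apply]
  have h3 := h1 x i j
  have h4 : cj q (b / a) = a / b := by field_simp at h2 ⊢; exact h2
  fin_cases i <;> fin_cases j <;> simp [-map_div₀, h4] at h3 ⊢ <;> grind

theorem aut_diag (α : SU 2 F q →* SU 2 F q) (hα : Function.Injective α)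
    (hD : ∀ x : SU 2 F q, x.1.1 1 0 = 0 → (α x).1.1 1 0 = 0) : ∃ c hc θ, α = saut ![1, c] hc θ := by
  obtain ⟨h, θ, H⟩ := aut_two α hα
  obtain ⟨l, h1, h2, h3⟩ := exists_norm_one_ne F q
  have h4 := hD (su2 l 0 (by simpa)) (by simp [su2_val])
  have h5 := H (su2 l 0 (by simpa))
  obtain ⟨-, h6, -, -, h7⟩ := su_two (α (su2 l 0 (by simpa)))
  generalize α (su2 l 0 (by simpa)) = y at h4 h5 h6 h7
  rw [h4, map_zero, eq_comm, neg_eq_zero] at h6
  have h8 : θ l ≠ θ (cj q l) := fun e => by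
    rw [← θ.injective e, mul_self_eq_one_iff] at h1; tauto
  have e0 := congrFun (congrFun h5 0) 0
  have e1 := congrFun (congrFun h5 0) 1
  have e2 := congrFun (congrFun h5 1) 0
  have e3 := congrFun (congrFun h5 1) 1
  simp [Matrix.mul_apply, su2_val, h4, h6, mul_comm] at e0 e1 e2 e3
  have hd := h.det_ne_zero
  rw [det_fin_two] at hd
  by_cases h9 : h.1 0 0 = 0
  · have h10 : h.1 1 0 ≠ 0 := fun e => by simp [h9, e] at hd
    have h11 : h.1 1 1 = 0 := by grind
    obtain ⟨c, hc, e⟩ := saut_of_diag (α := α) (a := -h.1 0 1) (b := h.1 1 0)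
      (θ := (RingEquiv.ofBijective (cj q) (Finite.injective_iff_bijective.1 cj_injective)).trans θ)
      (fun e => by simp [h9, neg_eq_zero.1 e] at hd) fun x => by
        obtain ⟨f1, f2, f3, f4, -⟩ := su_two x
        have g0 := congrFun (congrFun (H x) 0) 0
        have g1 := congrFun (congrFun (H x) 0) 1
        have g2 := congrFun (congrFun (H x) 1) 0
        have g3 := congrFun (congrFun (H x) 1) 1
        simp [Matrix.mul_apply, h9, h11] at g0 g1 g2 g3
        ext i j; fin_cases i <;> fin_cases j <;> simp [Matrix.mul_apply, *]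
    exact ⟨c, hc, _, e⟩
  · have h10 : h.1 0 1 = 0 := by grind
    have h11 : h.1 1 0 = 0 := by grind
    obtain ⟨c, hc, e⟩ := saut_of_diag (α := α) (b := h.1 1 1) h9 fun x => by
      convert H x <;> ext i j <;> fin_cases i <;> fin_cases j <;> simp [*]
    exact ⟨c, hc, _, e⟩

end H63.Phan
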