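import Mathlib
import Cfsg.Prelude.Def_PhanSystems
import Cfsg.Agent.Lib.Phan.Aut

/-!
Standard pairs and weak Phan systems.
-/

set_option autoImplicit false
set_option linter.unusedSectionVars false

namespace H63.Phan

open Matrix Cfsg H11.U Subgroup

variable {F : Type*} [Field F] [Fintype F] {q n k : ℕ} [IsSq F q] {G : Type*} [Group G]

local notation "𝐞" i:max => (Pi.single i 1 : Fin _ → F)

lemma eq_one_of_center {g : SU n F q} (hn : 2 ≤ n) (h : g ∈ center (SU n F q)) {x : Fin n → F}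
    (hx : x ≠ 0) (h1 : g ∈ fix q x) : g = 1 := by
  obtain ⟨a, ha⟩ := (mem_center_SU_iff hn).1 h
  rw [mem_fix, ha, smul_mulVec, one_mulVec] at h1
  rw [smul_left_injective F hx (h1.trans (one_smul F x).symm), one_smul] at ha
  exact Subtype.ext (Subtype.ext ha)

/-- Standard pairs. -/
structure Std (μ : SU 3 F q →* G) (U U' : Subgroup G) : Prop where
  ker : μ.ker ≤ center _
  up : (μ.comp up).range = U
  lo : (μ.comp lo).range = U'

lemma suBlock_eq {s : Set (Fin n)} {P : Subgroup (SU n F q)}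
    (h : ∀ g, g ∈ P ↔ ∀ j, j ∉ s → g ∈ fix q (𝐞 j)) : suBlock n F q s = P := by
  rw [← closure_eq P, suBlock]
  congr 1
  ext g
  refine (forall_congr' fun j => imp_congr_right fun _ => ⟨fun h => funext fun i => ?_, fun h => ?_⟩).trans
    (h g).symm
  · by_cases e : i = j
    · simpa [e] using h.1
    · simpa [e] using (h.2 i e).2
  · refine ⟨by simpa using congrFun h j, fun l e => ⟨?_, by simpa [e] using congrFun h l⟩⟩
    have := su_form g (𝐞 l) (𝐞 j)
    rw [mem_fix.1 h, form_single_one_right, form_single_single] at this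
    simpa [e] using this

lemma exists_std {V U U' : Subgroup G} (h : IsStandardUnitaryPair V U U' F q) :
    ∃ μ : SU 3 F q →* G, Std μ U U' ∧ μ.range = V := by
  have h1 : suBlock 3 F q {0, 1} = up.range := suBlock_eq fun g => ⟨by
    rintro ⟨A, rfl⟩ j hj; exact blk_mem_fix _ _ _ (by fin_cases j <;> simp at hj ⊢),
    fun h => exists_up (h 2 (by simp))⟩
  have h2 : suBlock 3 F q {1, 2} = lo.range := suBlock_eq fun g => ⟨by
    rintro ⟨A, rfl⟩ j hj; exact blk_mem_fix _ _ _ (by fin_cases j <;> simp at hj ⊢),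
    fun h => exists_lo (h 0 (by simp))⟩
  rw [IsStandardUnitaryPair, h1, h2] at h
  simp only [← MonoidHom.range_comp] at h
  rcases h with ⟨ψ, h1, h2⟩ | ⟨ψ, h1, h2⟩
  · exact ⟨_, ⟨fun x hx => by obtain rfl : x = 1 := by simpa using hx
                              exact one_mem _, h1, h2⟩, by
      simp [MonoidHom.range_comp, ← MonoidHom.range_eq_map]⟩
  · exact ⟨_, ⟨fun x hx => by simpa using hx, h1, h2⟩, by
      simp [MonoidHom.range_comp, ← MonoidHom.range_eq_map]⟩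

namespace Std

variable {a b : SU 3 F q →* G} {U U' U'' : Subgroup G}

lemma up_inj (h : Std a U U') : Function.Injective (a.comp Phan.up) :=
  (injective_iff_map_eq_one _).2 fun A e => blk_inj _ _ ((eq_one_of_center (x := 𝐞 2) (by decide) (h.ker e)
    (by simp) (blk_mem_fix _ _ _ (by simp))).trans (map_one _).symm)

lemma lo_inj (h : Std a U U') : Function.Injective (a.comp Phan.lo) :=
  (injective_iff_map_eq_one _).2 fun A e => blk_inj _ _ ((eq_one_of_center (x := 𝐞 0) (by decide) (h.ker e)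
    (by simp) (blk_mem_fix _ _ _ (by simp))).trans (map_one _).symm)

lemma eq_one_of_comm (h : Std a U U') {z : SU 2 F q}
    (hz : ∀ A, Commute (a (Phan.up A)) (a (Phan.lo z))) : z = 1 := by
  have h1 : ∀ A, ∃ c : F, (Phan.up A).1.1 * (Phan.lo z).1.1 = c • ((Phan.lo z).1.1 * (Phan.up A).1.1) :=
    fun A => by
    obtain ⟨c, hc⟩ := (mem_center_SU_iff (by decide)).1 (h.ker (x := Phan.up A * Phan.lo z *
      (Phan.lo z * Phan.up A)⁻¹) (by simp [(hz A).eq, -_root_.mul_inv_rev]))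
    refine ⟨c, ?_⟩
    change (Phan.up A * Phan.lo z).1.1 = c • (Phan.lo z * Phan.up A).1.1
    rw [← inv_mul_cancel_right (Phan.up A * Phan.lo z) (Phan.lo z * Phan.up A)]
    change (_ : SU 3 F q).1.1 * _ = _
    rw [hc, smul_one_mul]
  obtain ⟨l, h2, h3, -⟩ := exists_norm_one_ne F q
  obtain ⟨c, hc⟩ := h1 (su2 l 0 (by simpa))
  obtain ⟨d, hd⟩ := h1 (su2 0 1 (by simp [nm]))
  obtain ⟨f1, f2, -, -, f3⟩ := su_two z
  have e0 := congrFun (congrFun hc 0) 0
  have e1 := congrFun (congrFun hc 2) 1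
  have e2 := congrFun (congrFun hd 2) 2
  have e3 := congrFun (congrFun hd 0) 1
  simp [up_val, lo_val, su2_val, Matrix.mul_apply, Fin.sum_univ_three] at e0 e1 e2 e3
  have h4 : z.1.1 1 0 = 0 := by grind
  rw [h4, map_zero] at f2
  refine su_ext' fun i j => ?_
  fin_cases i <;> fin_cases j <;> simp <;> grind

lemma torus (ha : Std a U U') (hb : Std b U' U'') (hc : ∀ x ∈ U, ∀ y ∈ U'', x * y = y * x)
    {x y : SU 2 F q} (e : b (Phan.up y) = a (Phan.lo x)) (hx : x.1.1 1 0 = 0) : y.1.1 1 0 = 0 := by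
  obtain ⟨l, h2, h3, -⟩ := exists_norm_one_ne F q
  let s : SU 2 F q := su2 l 0 (by simpa)
  have h4 : ∀ A : SU 2 F q, A.1.1 1 0 = 0 → (Phan.lo A).1.1 *ᵥ 𝐞 2 = A.1.1 1 1 • 𝐞 2 := fun A hA => by
    obtain ⟨-, f2, -⟩ := su_two A
    rw [hA, map_zero, eq_comm, neg_eq_zero] at f2
    ext i; fin_cases i <;> simp [lo_val, f2]
  have h5 : Phan.up y ∈ fix q (𝐞 2) := blk_mem_fix _ _ _ (by simp)
  obtain ⟨t, ht⟩ := exists_up (g := Phan.lo s * (Phan.up y * (Phan.lo s)⁻¹ * (Phan.up y)⁻¹)) (by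
    simpa [mul_assoc] using mul_mem (conj_mem_fix (g := (Phan.lo s)⁻¹) (c := l) (by
      rw [← map_inv, h4 _ (by simp [s, su2_val, adjugate_fin_two])]
      simp [s, su2_val, adjugate_fin_two]) h5) (inv_mem h5))
  obtain ⟨z, hz⟩ : b (Phan.up t) ∈ (a.comp Phan.lo).range := by rw [ha.lo, ← hb.up]; exact ⟨t, rfl⟩
  have h6 : ∀ A A', Commute (a (Phan.up A)) (b (Phan.lo A')) := fun A A' =>
    hc _ (ha.up ▸ ⟨A, rfl⟩) _ (hb.lo ▸ ⟨A', rfl⟩)
  obtain rfl := ha.eq_one_of_comm (z := z) fun A => by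
    obtain ⟨A', h7⟩ := exists_up (conj_mem_fix (h4 x hx) (blk_mem_fix 0 (by decide) A (j := 2) (by simp)))
    rw [show a (Phan.lo z) = _ from hz, ht, map_mul, map_mul, map_mul, e, map_inv, map_inv, e]
    refine (h6 _ _).mul_right ?_
    have := ((h6 A' s).inv_right.map (MulAut.conj (a (Phan.lo x))))
    simpa [h7, mul_assoc] using this
  obtain rfl : t = 1 := hb.up_inj (by simpa using hz.symm)
  rw [map_one, eq_comm, ← mul_assoc, mul_inv_eq_one, ← mul_assoc, mul_inv_eq_iff_eq_mul] at ht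
  have := congrArg (·.1.1 1 0) ht
  change ((Phan.lo s).1.1 * (Phan.up y).1.1) 1 0 = ((Phan.up y).1.1 * (Phan.lo s).1.1) 1 0 at this
  simp [up_val, lo_val, s, su2_val, Matrix.mul_apply, Fin.sum_univ_three] at this
  grind

lemma comp_saut (h : Std a U U') (c : Fin 3 → F) (hc : ∀ i, nm q (c i) = 1) (θ : F ≃+* F) :
    Std (a.comp (saut c hc θ)) U U' ∧ (a.comp (saut c hc θ)).range = a.range := by
  have : ∀ {k} (f : SU k F q →* G) c hc, (f.comp (saut c hc θ)).range = f.range := fun f c hc => by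
    rw [MonoidHom.range_comp, MonoidHom.range_eq_top.2 (saut_bij c hc θ).2, ← MonoidHom.range_eq_map]
  refine ⟨⟨fun x hx => mem_center_iff.2 fun g => (saut_bij c hc θ).1 ?_, ?_, ?_⟩, this _ _ _⟩
  · simpa using mem_center_iff.1 (h.ker hx) _
  · rw [← h.up, ← this (a.comp Phan.up) ![c 0, c 1] fun i => by fin_cases i <;> simp [hc]]
    congr 1; ext A; exact congrArg a (saut_up c hc θ A)
  · rw [← h.lo, ← this (a.comp Phan.lo) ![c 1, c 2] fun i => by fin_cases i <;> simp [hc]]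
    congr 1; ext A; exact congrArg a (saut_lo c hc θ A)

lemma exists_match (ha : Std a U U') (hb : Std b U' U'') (hc : ∀ x ∈ U, ∀ y ∈ U'', x * y = y * x) :
    ∃ b', Std b' U' U'' ∧ b'.range = b.range ∧ ∀ A, b' (Phan.up A) = a (Phan.lo A) := by
  let α : SU 2 F q →* SU 2 F q := (MonoidHom.ofInjective hb.up_inj).symm.toMonoidHom.comp
    ((a.comp Phan.lo).codRestrict _ fun x => by rw [hb.up, ← ha.lo]; exact ⟨x, rfl⟩)
  have h1 : ∀ x, b (Phan.up (α x)) = a (Phan.lo x) := fun x =>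
    MonoidHom.apply_ofInjective_symm hb.up_inj _
  obtain ⟨c, h2, θ, e⟩ := aut_diag α (fun x y e => ha.lo_inj (by simp [← h1, e]))
    fun x => ha.torus hb hc (h1 x)
  have h3 := hb.comp_saut ![1, c, 1] (fun i => by fin_cases i <;> simp [nm, show c * cj q c = 1 from h2 1]) θ
  exact ⟨_, h3.1, h3.2, fun A => by rw [← h1, e, MonoidHom.comp_apply, saut_up]; rfl⟩

end Std

/-- The invariant of the induction. -/
def Inv (U V : ℕ → Subgroup G) (φ : SU n F q →* G) : Prop := ∀ i (h : i + 3 ≤ n),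
  Std (φ.comp (blk i h)) (U i) (U (i + 1)) ∧ (φ.comp (blk i h)).range = V i

lemma Inv.mem {U V : ℕ → Subgroup G} {φ : SU n F q →* G} (h : Inv U V φ) {i : ℕ} (hi : i + 3 ≤ n)
    (A : SU 2 F q) : φ (blk i (by omega) A) ∈ U i :=
  (h i hi).1.up ▸ ⟨A, congrArg φ (blk_blk _ _ _ _ _)⟩

lemma Inv.succ {U V : ℕ → Subgroup G} {ψ : SU (n + 3) F q →* G} (h : Inv U V ψ)
    {φ : SU (n + 4) F q →* G} {μ : SU 3 F q →* G} (h1 : ∀ A, φ (blk 0 (by omega) A) = ψ A)
    (h2 : ∀ A, φ (blk (n + 1) le_rfl A) = μ A) (h3 : Std μ (U (n + 1)) (U (n + 2)))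
    (h4 : μ.range = V (n + 1)) : Inv U V φ := fun i hi => by
  rcases Nat.lt_or_ge i (n + 1) with h5 | h5
  · rw [show φ.comp (blk i hi) = ψ.comp (blk i (by omega)) from MonoidHom.ext fun A => by
      simp [← h1, blk_blk]]
    exact h i _
  · obtain rfl : i = n + 1 := by omega
    rw [show φ.comp (blk (n + 1) hi) = μ from MonoidHom.ext h2]
    exact ⟨h3, h4⟩

theorem amalgam {N m : ℕ} {U V : ℕ → Subgroup G}
    (hs : ∀ i, i + 3 ≤ N → ∃ μ : SU 3 F q →* G, Std μ (U i) (U (i + 1)) ∧ μ.range = V i)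
    (hc : ∀ i j, i + 2 ≤ j → j + 2 ≤ N → ∀ x ∈ U i, ∀ y ∈ U j, x * y = y * x)
    (H : 4 ≤ q ∨ 1 ≤ m ∧ 3 ≤ q) (h0 : ∃ φ : SU (m + 3) F q →* G, Inv U V φ)
    (hm : m ≤ n) (hn : n + 3 ≤ N) : ∃ φ : SU (n + 3) F q →* G, Inv U V φ := by
  induction n, hm using Nat.le_induction with
  | base => exact h0
  | succ n hm ih =>
    obtain ⟨ψ, h⟩ := ih (by omega)
    obtain ⟨μ, h1, h2⟩ := hs _ hn
    obtain ⟨μ', h3, h4, h5⟩ := (h n le_rfl).1.exists_match h1 (hc _ _ le_rfl hn)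
    obtain ⟨φ, h6, h7⟩ := step (by omega) ψ μ' (fun A => by rw [h5, MonoidHom.comp_apply, blk_blk])
      fun A A' => by
      have := gen_two (n := n) (by omega)
        (P := (Subgroup.centralizer {μ' (lo A')}).comap (ψ.comp (blk 0 (by omega))))
        fun i hi A => by
          simp only [mem_comap, MonoidHom.comp_apply, blk_blk, mem_centralizer_singleton_iff]
          exact hc _ _ (by omega) hn _ (h.mem (by omega) A) _ (h3.lo ▸ ⟨A', rfl⟩)
      exact mem_centralizer_singleton_iff.1 (this.ge (mem_top A))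
    exact ⟨φ, h.succ h6 h7 h3 (h4.trans h2)⟩

/-- Extension of a finite family by the trivial subgroup. -/
def ext1 (U : Fin n → Subgroup G) (i : ℕ) : Subgroup G := if h : i < n then U ⟨i, h⟩ else ⊥

/-- Extension of a finite family by the trivial subgroup. -/
def ext2 (V : Fin n → Fin n → Subgroup G) (i : ℕ) : Subgroup G :=
  if h : i + 1 < n then V ⟨i, by omega⟩ ⟨i + 1, h⟩ else ⊥

lemma ext1_eq (U : Fin n → Subgroup G) {i : ℕ} (h : i < n) : ext1 U i = U ⟨i, h⟩ := dif_pos h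

lemma ext2_eq (V : Fin n → Fin n → Subgroup G) {i : ℕ} (h : i + 1 < n) :
    ext2 V i = V ⟨i, by omega⟩ ⟨i + 1, h⟩ := dif_pos h

lemma Inv.surjective {U : Fin (n + 2) → Subgroup G} {V : Fin (n + 2) → Fin (n + 2) → Subgroup G}
    {φ : SU (n + 3) F q →* G} (h : Inv (ext1 U) (ext2 V) φ)
    (hgen : (⨆ i, U i) ⊔ (⨆ (i : Fin (n + 2)) (j : Fin (n + 2)) (_ : (i : ℕ) + 1 = j), V i j) = ⊤) :
    Function.Surjective φ := by
  rw [← MonoidHom.range_eq_top, eq_top_iff, ← hgen]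
  refine sup_le (iSup_le fun ⟨i, hi⟩ => ?_) (iSup_le fun ⟨i, hi⟩ => iSup_le fun ⟨j, hj⟩ => iSup_le ?_)
  · rw [← ext1_eq U hi]
    rcases i with _ | i
    · rw [← (h 0 (by omega)).1.up]; rintro _ ⟨x, rfl⟩; exact ⟨_, rfl⟩
    · rw [← (h i (by omega)).1.lo]; rintro _ ⟨x, rfl⟩; exact ⟨_, rfl⟩
  · rintro (rfl : i + 1 = j)
    rw [← ext2_eq V hj, ← (h i (by omega)).2]; rintro _ ⟨x, rfl⟩; exact ⟨_, rfl⟩

theorem phan {m : ℕ} {U : Fin (n + 2) → Subgroup G} {V : Fin (n + 2) → Fin (n + 2) → Subgroup G}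
    (h1 : ∀ i j : Fin (n + 2), (i : ℕ) + 2 ≤ j → ∀ x ∈ U i, ∀ y ∈ U j, x * y = y * x)
    (h2 : ∀ i j : Fin (n + 2), (i : ℕ) + 1 = j →
      ∃ μ : SU 3 F q →* G, Std μ (U i) (U j) ∧ μ.range = V i j)
    (hgen : (⨆ i, U i) ⊔ (⨆ (i : Fin (n + 2)) (j : Fin (n + 2)) (_ : (i : ℕ) + 1 = j), V i j) = ⊤)
    (H : 4 ≤ q ∨ 1 ≤ m ∧ 3 ≤ q) (hm : m ≤ n)
    (h0 : ∃ φ : SU (m + 3) F q →* G, Inv (ext1 U) (ext2 V) φ) :
    ∃ f : SU (n + 3) F q →* G, Function.Surjective f :=
  (amalgam (N := n + 3) (fun i hi => by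
    rw [ext1_eq U (by omega), ext1_eq U (by omega), ext2_eq V (by omega)]; exact h2 _ _ rfl)
    (fun i j hi hj => by rw [ext1_eq U (by omega), ext1_eq U (by omega)]; exact h1 _ _ hi)
    H h0 hm le_rfl).imp fun _ h => h.surjective hgen

theorem phan_four (hq : 4 ≤ q) {U : Fin (n + 2) → Subgroup G}
    {V : Fin (n + 2) → Fin (n + 2) → Subgroup G}
    (h1 : ∀ i j : Fin (n + 2), (i : ℕ) + 2 ≤ j → ∀ x ∈ U i, ∀ y ∈ U j, x * y = y * x)
    (h2 : ∀ i j : Fin (n + 2), (i : ℕ) + 1 = j →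
      ∃ μ : SU 3 F q →* G, Std μ (U i) (U j) ∧ μ.range = V i j)
    (hgen : (⨆ i, U i) ⊔ (⨆ (i : Fin (n + 2)) (j : Fin (n + 2)) (_ : (i : ℕ) + 1 = j), V i j) = ⊤) :
    ∃ f : SU (n + 3) F q →* G, Function.Surjective f :=
  phan (m := 0) h1 h2 hgen (.inl hq) (by omega) <| (h2 0 1 (by simp)).imp fun μ h i hi => by
    obtain rfl : i = 0 := by omega
    rw [show μ.comp (blk 0 hi) = μ from MonoidHom.ext fun A => congrArg μ (blk_id _ A),
      ext1_eq U (by omega), ext1_eq U (by omega), ext2_eq V (by omega)]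
    exact h

end H63.Phan
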