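import Mathlib
import Cfsg.Agent.Lib.Phan.Std

/-!
Recognition of standard pairs in `SU₃(q)`.
-/

set_option autoImplicit false
set_option linter.unusedSectionVars false

namespace H63.Phan

open Matrix Cfsg H11.U Subgroup

variable {F : Type*} [Field F] [Fintype F] {q n k : ℕ} [IsSq F q] {G : Type*} [Group G]

local notation "𝐞" i:max => (Pi.single i 1 : Fin _ → F)
local notation "B" => hermForm _ F q

lemma ON.lc_co {w : Fin n → Fin n → F} (h : ON q w) (x : Fin n → F) : lc w (co q w x) = x := by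
  obtain ⟨u, rfl⟩ := Finite.injective_iff_surjective.1 h.lc_inj x
  rw [h.co_lc]

lemma ON.emb_mem_fix {w : Fin k → Fin n → F} (h : ON q w) {A : SU k F q} {x : Fin k → F} :
    h.emb A ∈ fix q (lc w x) ↔ A ∈ fix q x := by
  rw [mem_fix, h.emb_lc, h.lc_inj.eq_iff, mem_fix]

lemma ON.cons {w : Fin k → Fin n → F} (h : ON q w) {v : Fin n → F} (h1 : B v v = 1)
    (h2 : co q w v = 0) : ON q (Fin.cons v w : Fin (k + 1) → Fin n → F) := fun i j => by
  refine Fin.cases ?_ (fun i => ?_) i <;> refine Fin.cases ?_ (fun j => ?_) j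
  · simpa
  · simpa [(Fin.succ_ne_zero j).symm, co] using congrFun h2 j
  · simpa using form_eq_zero_symm (congrFun h2 i)
  · simpa using h i j

lemma inv_form {t : SU n F q} (ht : t * t = 1) (x y : Fin n → F) :
    B (t.1.1 *ᵥ x) y = B x (t.1.1 *ᵥ y) := by rw [← su_form t, ← su_mul, ht, su_one]

/-- Involutions in odd characteristic are diagonalisable. -/
lemma exists_eigen {t : SU n F q} (ht : t * t = 1) (h2 : (2 : F) ≠ 0) :
    ∃ (w : Fin n → Fin n → F) (ε : Fin n → F), ON q w ∧ (∀ i, ε i = 1 ∨ ε i = -1) ∧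
      (∀ i, t.1.1 *ᵥ w i = ε i • w i) ∧ ∏ i, ε i = 1 := by
  have : ∀ k ≤ n, ∃ (w : Fin k → Fin n → F) (ε : Fin k → F), ON q w ∧ (∀ i, ε i = 1 ∨ ε i = -1) ∧
      ∀ i, t.1.1 *ᵥ w i = ε i • w i := fun k hk => by
    induction k with
    | zero => exact ⟨![], ![], fun i => i.elim0, fun i => i.elim0, fun i => i.elim0⟩
    | succ k ih =>
      obtain ⟨w, ε, h3, h4, h5⟩ := ih (by omega)
      obtain ⟨v, h6, h7⟩ := h3.exists_perp hk
      have h8 : t.1.1 *ᵥ t.1.1 *ᵥ v = v := by rw [← su_mul, ht, su_one]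
      obtain ⟨δ, h9, h10⟩ : ∃ δ : F, (δ = 1 ∨ δ = -1) ∧
          B (v + δ • t.1.1 *ᵥ v) (v + δ • t.1.1 *ᵥ v) ≠ 0 := by
        by_contra e
        push Not at e
        have e1 := e 1 (.inl rfl)
        have e2 := e (-1) (.inr rfl)
        simp only [form_add_left, form_add_right, form_smul_left, form_smul_right, su_form, h6, map_neg,
          map_one] at e1 e2
        exact mul_ne_zero h2 h2 (by linear_combination e1 + e2)
      obtain ⟨s, -, h11⟩ := normalize h10
      refine ⟨_, Fin.cons δ ε, h3.cons h11 (funext fun i => ?_), fun i => Fin.cases h9 h4 i,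
        fun i => Fin.cases ?_ h5 i⟩
      · simp [co, form_add_left, form_smul_left, inv_form ht, h5, form_smul_right,
          show B v (w i) = 0 from congrFun h7 i]
      · simp only [Fin.cons_zero, mulVec_smul, mulVec_add, h8]
        rcases h9 with rfl | rfl <;> module
  obtain ⟨w, ε, h3, h4, h5⟩ := this n le_rfl
  refine ⟨w, ε, h3, h4, h5, ?_⟩
  have h6 : t.1.1 * (of w)ᵀ = (of w)ᵀ * diagonal ε := by
    ext i j; simpa [Matrix.mul_apply, mulVec, dotProduct, mul_comm, diagonal] using congrFun (h5 j) i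
  have h7 := congrArg det h6
  rw [det_mul, det_mul, t.1.2, det_diagonal, one_mul, eq_comm, mul_eq_left₀] at h7
  · exact h7
  · intro e; simpa [e] using congrArg det h3.mul

lemma eigen_co {t : SU n F q} (ht : t * t = 1) {w : Fin k → Fin n → F} {i : Fin k} (h2 : (2 : F) ≠ 0)
    (h : t.1.1 *ᵥ w i = -w i) {x : Fin n → F} (hx : t.1.1 *ᵥ x = x) : co q w x i = 0 := by
  have := inv_form ht x (w i)
  rw [hx, h, form_neg_right] at this
  exact mul_left_cancel₀ h2 (by rw [co]; linear_combination this)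

lemma mem_fix_of_pow {g : SU n F q} {x : Fin n → F} {c : F} (h : g.1.1 *ᵥ x = c • x) {p : ℕ}
    [Fact p.Prime] [CharP F p] (hp : g ^ p = 1) : g ∈ fix q x := by
  have h1 : ∀ k, (g ^ k).1.1 *ᵥ x = c ^ k • x := fun k => by
    induction k with
    | zero => simp [su_one]
    | succ k ih => rw [pow_succ, su_mul, h, mulVec_smul, ih, smul_smul, pow_succ']
  by_cases hx : x = 0
  · simp [mem_fix, hx]
  have h2 := h1 p
  rw [hp, su_one] at h2
  have h3 : c ^ p = 1 ^ p := by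
    rw [one_pow]; exact smul_left_injective F hx (h2.symm.trans (one_smul F x).symm)
  rw [mem_fix, h, frobenius_inj F p h3, one_smul]

lemma iso3 {u v : Fin 3 → F} (h0 : u ≠ 0) (hu : B u u = 0) (hv : B v v = 0) (h : B u v = 0) :
    ∃ c : F, v = c • u := by
  have h' := form_eq_zero_symm h
  simp only [form_def, Fin.sum_univ_three] at hu hv h h'
  have h1 : u 1 * v 2 - u 2 * v 1 = 0 := (nm_eq_zero (q := q)).1 (by simp only [nm, map_sub, map_mul]; grind)
  have h2 : u 0 * v 2 - u 2 * v 0 = 0 := (nm_eq_zero (q := q)).1 (by simp only [nm, map_sub, map_mul]; grind)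
  have h3 : u 0 * v 1 - u 1 * v 0 = 0 := (nm_eq_zero (q := q)).1 (by simp only [nm, map_sub, map_mul]; grind)
  clear hu hv h h'
  obtain ⟨i, hi⟩ := Function.ne_iff.1 h0
  refine ⟨v i / u i, funext fun j => ?_⟩
  fin_cases i <;> fin_cases j <;> simp at hi ⊢ <;> grind

section Even

variable [CharP F 2] {s s' : SU 3 F q} (hs : s * s = 1) (hs' : s' * s' = 1)
include hs

lemma inv_adj (x y : Fin 3 → F) : B (s.1.1 *ᵥ x - x) y = B x (s.1.1 *ᵥ y - y) := by
  rw [form_sub_left, form_sub_right, inv_form hs]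

lemma inv_sq (x : Fin 3 → F) : s.1.1 *ᵥ (s.1.1 *ᵥ x - x) = s.1.1 *ᵥ x - x := by
  rw [mulVec_sub, ← su_mul, hs, su_one, CharTwo.sub_eq_add, CharTwo.sub_eq_add, add_comm]

lemma inv_iso (x y : Fin 3 → F) : B (s.1.1 *ᵥ x - x) (s.1.1 *ᵥ y - y) = 0 := by
  rw [inv_adj hs, inv_sq hs, sub_self, form_zero_right]

include hs' in
lemma inv_par (h : Commute s s') {x : Fin 3 → F} (hx : s.1.1 *ᵥ x - x ≠ 0) (y : Fin 3 → F) :
    ∃ c : F, s'.1.1 *ᵥ y - y = c • (s.1.1 *ᵥ x - x) := by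
  refine iso3 hx (inv_iso hs _ _) (inv_iso hs' _ _) ?_
  obtain ⟨c, hc⟩ := iso3 hx (inv_iso hs _ _) (inv_iso hs (s'.1.1 *ᵥ x) _) (inv_iso hs _ _)
  rw [← su_mul, h.eq, su_mul, ← mulVec_sub] at hc
  have := Fact.mk Nat.prime_two
  rw [← inv_adj hs', mem_fix_of_pow hc (p := 2) (by rw [sq, hs']), sub_self, form_zero_left]

include hs' in
lemma inv_fix (h : Commute s s') {x : Fin 3 → F} (hx : s.1.1 *ᵥ x - x ≠ 0) {y : Fin 3 → F}
    (hy : B y (s.1.1 *ᵥ x - x) = 0) : s' ∈ fix q y :=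
  sub_eq_zero.1 (eq_zero_of_form_eq_zero (q := q) fun z => by
    obtain ⟨c, hc⟩ := inv_par hs hs' h hx z
    rw [inv_adj hs', hc, form_smul_right, hy, mul_zero])

end Even

lemma exists_move {g : SU n F q} (h : g ≠ 1) : ∃ x, g.1.1 *ᵥ x - x ≠ 0 := by
  by_contra e
  push Not at e
  exact h (su_ext fun x => by rw [su_one, sub_eq_zero.1 (e x)])

lemma gen_pair {u v : Fin 2 → F} (hu : B u u = 0) (hv : B v v = 0) (h : B u v ≠ 0)
    {P : Subgroup (SU 2 F q)} (h1 : ∀ c, cj q c = -c → tv q u c ∈ P)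
    (h2 : ∀ c, cj q c = -c → tv q v c ∈ P) : P = ⊤ := eq_top_of_tv_mem (.inl (by decide))
  fun w _ hw c hc => by
  have h' := form_ne_zero_symm h
  obtain ⟨a, b, rfl⟩ : ∃ a b : F, w = a • u + b • v := by
    have h3 : u 0 * v 1 - u 1 * v 0 ≠ 0 := fun e => mul_ne_zero h h' (by
      simp only [form_def, Fin.sum_univ_two] at hu hv ⊢
      have := congrArg (cj q) e
      simp only [map_sub, map_mul, map_zero] at this
      grind)
    refine ⟨(w 0 * v 1 - w 1 * v 0) / (u 0 * v 1 - u 1 * v 0),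
      (u 0 * w 1 - u 1 * w 0) / (u 0 * v 1 - u 1 * v 0), funext fun i => ?_⟩
    fin_cases i <;> simp <;> grind
  by_cases ha : a = 0
  · rw [ha, zero_smul, zero_add, tv_smul hv hc]; exact h2 _ (by simp [cj_cj, hc, mul_comm])
  have h3 : cj q (b / a / B u v) = -(b / a / B u v) := by
    simp only [form_add_left, form_add_right, form_smul_left, form_smul_right, hu, hv] at hw
    have := cj_ne_zero (q := q).2 ha
    rw [map_div₀, map_div₀, cj_form]; field_simp; linear_combination hw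
  have h4 : a • u + b • v = (tv q v (b / a / B u v)).1.1 *ᵥ (a • u) := by
    rw [tv_mulVec hv h3, form_smul_left]; congr 2; field_simp
  rw [h4, ← conj_tv, tv_smul hu hc]
  exact mul_mem (mul_mem (h2 _ h3) (h1 _ (by simp [cj_cj, hc, mul_comm]))) (inv_mem (h2 _ h3))

/-- The element `-1` of `SU₂`. -/
def neg2 : SU 2 F q := su2 (-1) 0 (by simp [nm])

lemma neg2_mulVec (x : Fin 2 → F) : (neg2 (q := q)).1.1 *ᵥ x = -x := by
  ext i; fin_cases i <;> simp [neg2, su2_val, mulVec, dotProduct]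

lemma neg2_sq : neg2 * neg2 = (1 : SU 2 F q) := su_ext fun x => by
  rw [su_mul, neg2_mulVec, neg2_mulVec, neg_neg, su_one]

lemma neg2_comm (A : SU 2 F q) : Commute neg2 A := su_ext fun x => by
  rw [su_mul, su_mul, neg2_mulVec, neg2_mulVec, mulVec_neg]

lemma neg2_ne (h2 : (2 : F) ≠ 0) : neg2 ≠ (1 : SU 2 F q) := fun e => by
  have := congrFun (neg2_mulVec (q := q) (fun _ => (1 : F))) 0
  rw [e, su_one] at this
  change (1 : F) = -1 at this
  exact h2 (by linear_combination this)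

lemma exists_fixed (f : SU 2 F q →* SU 3 F q) (hf : Function.Injective f) :
    ∃ e, B e e = 1 ∧ ∀ A, f A ∈ fix q e := by
  obtain ⟨p, k, hp, hc, -⟩ := exists_char_pow F q
  have := Fact.mk hp
  have h0 : ∀ w c, B w w = 0 → cj q c = -c → f (tv q w c) ^ p = 1 := fun w c hw hc => by
    simp [← map_pow, tv_pow hw hc, tv_zero]
  by_cases h2 : p = 2
  · subst h2
    obtain ⟨d, hd0, hd⟩ := exists_trace_zero F q
    obtain ⟨u, -, hu, hu0⟩ := (nondeg_top (F := F) (q := q) (n := 2)).exists_isotropic (by simp)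
    obtain ⟨v, -, hv0, huv⟩ := nondeg_top.exists_partner trivial hu hu0 1 one_ne_zero
    have hvu := form_eq_one_symm huv
    simp only [sq] at h0
    have h1 : ¬ Commute (f (tv q u d)) (f (tv q v d)) := fun e => by
      have := congrArg (fun g : SU 2 F q => B (g.1.1 *ᵥ u) v) (e.of_map hf).eq
      simp only [su_mul, tv_mulVec hu0 hd, tv_mulVec hv0 hd, form_add_left, form_smul_left, hu0, hv0, huv,
        hvu] at this
      simp [hd0] at this
    obtain ⟨x, hx⟩ := exists_move (g := f (tv q u d)) fun e => h1 (e ▸ Commute.one_left _)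
    obtain ⟨y, hy⟩ := exists_move (g := f (tv q v d)) fun e => h1 (e ▸ Commute.one_right _)
    have h3 := h0 u d hu0 hd
    have h4 := h0 v d hv0 hd
    have h5 := finrank_le_perp (q := q) ⊤ ((f (tv q u d)).1.1 *ᵥ x - x)
    have h6 := finrank_le_perp (q := q) (perp q ⊤ ((f (tv q u d)).1.1 *ᵥ x - x))
      ((f (tv q v d)).1.1 *ᵥ y - y)
    obtain ⟨e, ⟨⟨-, h7⟩, h8⟩, h9⟩ := (nondeg_top.perp_pair trivial trivial (inv_iso h3 x x)
      (inv_iso h4 y y) fun e => h1 (su_ext fun z => by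
        obtain ⟨a, ha⟩ := inv_par h3 h3 rfl hx z
        obtain ⟨b, hb⟩ := inv_par h4 h4 rfl hy z
        rw [su_mul, su_mul, eq_add_of_sub_eq hb, mulVec_add, mulVec_smul, eq_add_of_sub_eq ha, mulVec_add,
          mulVec_smul, inv_fix h3 h3 rfl hx (form_eq_zero_symm e), inv_fix h4 h4 rfl hy e,
          eq_add_of_sub_eq hb, add_left_comm])).exists_norm (by simp at h5; omega) (map_one (cj q))
    have h10 : ∀ w c c', Commute (f (tv q w c)) (f (tv q w c')) := fun w c c' =>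
      Commute.map (congrArg Subtype.val ((tvGroup_isMulCommutative w).is_comm.comm
        ⟨_, c, rfl⟩ ⟨_, c', rfl⟩)) f
    exact ⟨e, h9, fun A => (gen_pair hu0 hv0 (by simp [huv]) (P := (fix q e).comap f)
      (fun c hc => inv_fix h3 (h0 u c hu0 hc) (h10 _ _ _) hx h7)
      fun c hc => inv_fix h4 (h0 v c hv0 hc) (h10 _ _ _) hy h8).ge (mem_top A)⟩
  have h2 : (2 : F) ≠ 0 := Ring.two_ne_zero (by rwa [ringChar.eq F p])
  have h3 : f neg2 * f neg2 = 1 := by rw [← map_mul, neg2_sq, map_one]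
  obtain ⟨w, ε, h4, h5, h6, h7⟩ := exists_eigen h3 h2
  obtain ⟨i, h8, h9⟩ : ∃ i, ε i = 1 ∧ ∀ j, j ≠ i → ε j = -1 := by
    have h8 : ¬ ∀ i, ε i = 1 := fun e => neg2_ne h2 (hf (su_ext fun x => by
      rw [map_one, su_one, ← h4.lc_co x, mulVec_lc]; simp [h6, e]))
    have : (-1 : F) ≠ 1 := fun e => h2 (by linear_combination -e)
    simp only [Fin.forall_fin_succ, Fin.exists_fin_succ, Fin.prod_univ_three] at h5 h7 h8 ⊢
    rcases h5 with ⟨a | a, b | b, c | c, -⟩ <;> simp_all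
  refine ⟨w i, h4.self i, fun A => (eq_top_of_tv_mem (.inl (by decide)) (H := (fix q (w i)).comap f)
    fun u _ hu c hc => ?_).ge (mem_top A)⟩
  refine mem_fix_of_pow (c := co q w ((f (tv q u c)).1.1 *ᵥ w i) i) ?_ (h0 u c hu hc)
  conv_lhs => rw [← h4.lc_co (_ *ᵥ _), lc_eq]
  refine Finset.sum_eq_single i (fun j _ hj => ?_) (by simp)
  rw [eigen_co h3 h2 (by rw [h6, h9 j hj, neg_one_smul]), zero_smul]
  rw [← su_mul, ((neg2_comm _).map f).eq, su_mul, h6, h8, one_smul]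

lemma exists_range_fix {e : Fin 3 → F} (he : B e e = 1) :
    ∃ (w : Fin 2 → Fin 3 → F) (h : ON q w), co q w e = 0 ∧ h.emb.range = fix q e ∧
      ∀ x, B x e = 0 → lc w (co q w x) = x := by
  obtain ⟨w, h1, h2⟩ := (on_one.2 he).exists_ext (l := 2) le_rfl
  have h3 : co q w e = 0 := funext fun i => form_eq_zero_symm (co_one.1 (h2 i))
  have h4 : ∀ x, x = B x e • e + lc w (co q w x) := fun x => by
    conv_lhs => rw [← (h1.cons he h3).lc_co x]
    simp [lc_eq, Fin.sum_univ_succ, co]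
  refine ⟨w, h1, h3, Subgroup.ext fun g => h1.mem_range.trans ⟨fun h => h e h3, fun h x hx => ?_⟩,
    fun x hx => by simpa [hx] using (h4 x).symm⟩
  rw [h4 x, hx, lc_zero, add_zero, mulVec_smul, h]

theorem range_eq_fix (f : SU 2 F q →* SU 3 F q) (hf : Function.Injective f) :
    ∃ e, B e e = 1 ∧ f.range = fix q e := by
  obtain ⟨e, he, h⟩ := exists_fixed f hf
  obtain ⟨w, h1, -, h2, -⟩ := exists_range_fix he
  refine ⟨e, he, eq_of_le_of_card_ge (by rintro _ ⟨A, rfl⟩; exact h A) ?_⟩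
  rw [← h2, ← Nat.card_congr (MonoidHom.ofInjective hf).toEquiv,
    ← Nat.card_congr (MonoidHom.ofInjective h1.emb_inj).toEquiv]

lemma pow_eq_one_of_fix {A : SU 2 F q} {x : Fin 2 → F} (hx : x ≠ 0) (h : A ∈ fix q x) (p : ℕ)
    [Fact p.Prime] [CharP F p] : A ^ p = 1 := by
  have h1 : (A.1.1 - 1) ^ 2 = 0 := by
    obtain ⟨-, -, -, -, h1⟩ := su_two A
    have h2 := congrFun h 0
    have h3 := congrFun h 1
    simp [mulVec, dotProduct] at h2 h3
    have h4 : A.1.1 0 0 + A.1.1 1 1 = 2 := by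
      obtain ⟨i, hi⟩ := Function.ne_iff.1 hx
      fin_cases i <;> simp at hi <;> grind
    ext i j; fin_cases i <;> fin_cases j <;> simp [sq, Matrix.mul_apply] <;> grind
  have h2 := pow_eq_zero_of_le (Fact.out : p.Prime).two_le h1
  rw [sub_pow_char_of_commute _ (Commute.one_right _), one_pow, sub_eq_zero] at h2
  exact Subtype.ext (Subtype.ext h2)

lemma perp_of_comm {e e' : Fin 3 → F} (he : B e e = 1) (he' : B e' e' = 1) {d d' : SU 3 F q}
    (hd : d ∈ fix q e) (hd' : d' ∈ fix q e') (h : Commute d d') (o : orderOf d = q + 1)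
    (o' : orderOf d' = q + 1) : B e' e = 0 ∨ fix q e = fix q e' := by
  have key : ∀ {e : Fin 3 → F} {d : SU 3 F q}, B e e = 1 → d ∈ fix q e → orderOf d = q + 1 →
      ∀ x, d ∈ fix q x → x = B x e • e := fun {e d} he hd o x hx => by
    obtain ⟨p, k, hp, hc, hq, hk⟩ := exists_char_pow F q
    have := Fact.mk hp
    obtain ⟨w, h1, -, h2, h3⟩ := exists_range_fix he
    obtain ⟨A, rfl⟩ := h2.ge hd
    by_contra h4
    have h5 := h3 (x - B x e • e) (by simp [form_sub_left, form_smul_left, he])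
    have h6 := pow_eq_one_of_fix (A := A) (x := co q w (x - B x e • e))
      (fun h => h4 (by rw [h, lc_zero] at h5; exact (sub_eq_zero.1 h5.symm)))
      (h1.emb_mem_fix.1 (by rw [h5, mem_fix, mulVec_sub, mulVec_smul, hx, hd])) p
    have h7 : q + 1 ∣ p := by rw [← o, orderOf_dvd_iff_pow_eq_one, ← map_pow, h6, map_one]
    have := Nat.le_of_dvd hp.pos h7
    have := Nat.le_self_pow hk.ne' p
    omega
  have h1 := key he' hd' o' (d.1.1 *ᵥ e') (by rw [mem_fix, ← su_mul, ← h.eq, su_mul, hd'])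
  refine or_iff_not_imp_left.2 fun h2 => ?_
  have h3 : B (d.1.1 *ᵥ e') e' = 1 := mul_right_cancel₀ h2 (by
    rw [← form_smul_left, ← h1, one_mul]; conv_lhs => rw [← hd, su_form])
  rw [h3, one_smul] at h1
  ext g
  rw [key he hd o e' h1, mem_fix, mem_fix, mulVec_smul, (smul_right_injective _ h2).eq_iff]

lemma fix_ne_top (hn : 3 ≤ n) {e : Fin n → F} (he : B e e = 1) : fix q e ≠ ⊤ := fun h => by
  obtain ⟨v, h1, h2⟩ := (on_one.2 he).exists_perp (by omega)
  obtain ⟨g, hg⟩ := (on_one.2 he).exists_su (on_one.2 h1) (by omega)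
  have : v = e := (hg 0).symm.trans (h.ge (mem_top g))
  simpa [this, he] using co_one.1 h2

lemma std_of_fix (ν : SU n F q →* G) (hν : ν.ker ≤ center _) {w : Fin 3 → Fin n → F} (h : ON q w) :
    Std (ν.comp h.emb) (((fix q (𝐞 2)).map h.emb).map ν) (((fix q (𝐞 0)).map h.emb).map ν) where
  ker x hx := mem_center_iff.2 fun g => h.emb_inj (by simpa using mem_center_iff.1 (hν hx) _)
  up := by
    rw [Subgroup.map_map, MonoidHom.range_comp]; congr 1
    exact Subgroup.ext fun g => ⟨by rintro ⟨A, rfl⟩; exact blk_mem_fix _ _ _ (by simp), exists_up⟩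
  lo := by
    rw [Subgroup.map_map, MonoidHom.range_comp]; congr 1
    exact Subgroup.ext fun g => ⟨by rintro ⟨A, rfl⟩; exact blk_mem_fix _ _ _ (by simp), exists_lo⟩

theorem exists_std_of_torus {U U' D D' : Subgroup G} (f : SU 2 F q ≃* U) (f' : SU 2 F q ≃* U')
    (ε : ↥(U ⊔ U') ≃* SU 3 F q) (hD : D ≤ U ∧ IsCyclic D ∧ Nat.card D = q + 1)
    (hD' : D' ≤ U' ∧ IsCyclic D' ∧ Nat.card D' = q + 1) (hc : ∀ x ∈ D, ∀ y ∈ D', x * y = y * x) :
    ∃ μ : SU 3 F q →* G, Std μ U U' ∧ μ.range = U ⊔ U' := by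
  let ν : SU 3 F q →* G := (U ⊔ U').subtype.comp ε.symm.toMonoidHom
  have hν : Function.Injective ν := Subtype.val_injective.comp ε.symm.injective
  have h0 : ν.range = U ⊔ U' := by simp [ν, MonoidHom.range_comp, ← MonoidHom.range_eq_map]
  have key : ∀ {W D : Subgroup G}, (SU 2 F q ≃* W) → W ≤ U ⊔ U' →
      D ≤ W ∧ IsCyclic D ∧ Nat.card D = q + 1 → ∃ e, B e e = 1 ∧ (fix q e).map ν = W ∧
        ∃ d ∈ fix q e, ν d ∈ D ∧ orderOf d = q + 1 := fun {W D} f hW hD => by
    obtain ⟨e, h1, h2⟩ := range_eq_fix (ε.toMonoidHom.comp ((inclusion hW).comp f.toMonoidHom))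
      (ε.injective.comp ((inclusion_injective hW).comp f.injective))
    have h3 : (fix q e).map ν = W := by
      rw [← h2, ← MonoidHom.range_comp]
      exact Subgroup.ext fun x => ⟨by rintro ⟨A, rfl⟩; simp [ν], fun hx => ⟨f.symm ⟨x, hx⟩, by simp [ν]⟩⟩
    obtain ⟨d, hd⟩ := hD.2.1.exists_ofOrder_eq_natCard
    obtain ⟨d', h4, h5⟩ := h3.ge (hD.1 d.2)
    exact ⟨e, h1, h3, d', h4, h5 ▸ d.2, by
      rw [← orderOf_injective ν hν, h5, orderOf_coe, hd, hD.2.2]⟩
  obtain ⟨e, h1, h2, d, h3, h4, h5⟩ := key f le_sup_left hD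
  obtain ⟨e', h1', h2', d', h3', h4', h5'⟩ := key f' le_sup_right hD'
  rcases perp_of_comm h1 h1' h3 h3' (Commute.of_map hν (hc _ h4 _ h4')) h5 h5' with h6 | h6
  swap
  · refine (fix_ne_top le_rfl h1 (map_injective hν ?_)).elim
    rw [← MonoidHom.range_eq_map, h0, ← h2, ← h2', h6, sup_idem]
  obtain ⟨v, h7, h8⟩ := (on_two.2 ⟨h1', h1, h6⟩).exists_perp (by decide)
  have h := on_three.2 ⟨h1', h7, h1, form_eq_zero_symm (co_two.1 h8).1, h6, (co_two.1 h8).2⟩
  have h9 := Finite.injective_iff_surjective.1 h.emb_inj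
  have h10 : ∀ i, (fix q (𝐞 i)).map h.emb = fix q (![e', v, e] i) := fun i => by
    rw [← lc_single ![e', v, e], ← map_comap_eq_self_of_surjective h9 (fix q (lc _ _))]
    congr 1; ext; exact h.emb_mem_fix.symm
  have := std_of_fix ν (by simp [(MonoidHom.ker_eq_bot_iff ν).2 hν]) h
  rw [h10, h10] at this
  exact ⟨_, h2 ▸ h2' ▸ this, by
    rw [MonoidHom.range_comp, MonoidHom.range_eq_top.2 h9, ← MonoidHom.range_eq_map, h0]⟩

end H63.Phan
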