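import Mathlib
import Cfsg.Agent.Lib.Phan.Rec
import Cfsg.Agent.Lib.Stein.SUM

/-!
Weak Phan systems over the field with nine elements.
-/

set_option autoImplicit false
set_option linter.unusedSectionVars false

namespace H63.Phan

open Matrix Cfsg H11.U Subgroup

variable {F : Type*} [Field F] [Fintype F] {q n k : ℕ} [IsSq F q] {G : Type*} [Group G]

local notation "𝐞" i:max => (Pi.single i 1 : Fin _ → F)
local notation "B" => hermForm _ F q

lemma exists_lift {Q Y P : Type*} [Group Q] [Group Y] [Group P] (h : HasCyclicSchurMultiplier Q 1)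
    (hQ : commutator Q = ⊤) (ξ : Y →* P) (hξ : ξ.ker ≤ center Y) (γ : Q →* P)
    (hγ : γ.range ≤ ξ.range) : ∃ ρ : Q →* Y, ∀ x, ξ (ρ x) = γ x := by
  let X := (γ.comp (.fst Q Y)).eqLocus (ξ.comp (.snd Q Y))
  let τ : X →* Q := (MonoidHom.fst Q Y).comp X.subtype
  have h1 : Function.Surjective τ := fun x => by
    obtain ⟨y, hy⟩ := hγ ⟨x, rfl⟩
    exact ⟨⟨(x, y), hy.symm⟩, rfl⟩
  have h2 := H78.Schur.ker_inf_eq_bot h τ h1 fun x hx => mem_center_iff.2 fun y => Subtype.ext (Prod.ext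
    (by simp [show x.1.1 = 1 from hx]) (mem_center_iff.1 (hξ (x.2.symm.trans
      ((congrArg γ hx).trans γ.map_one))) _))
  have h3 : Function.Bijective (τ.comp (commutator X).subtype) :=
    ⟨(injective_iff_map_eq_one _).2 fun x hx => Subtype.ext (h2.le ⟨hx, x.2⟩), fun x => by
      obtain ⟨y, hy, e⟩ := ((H78.Schur.map_commutator_of_surjective τ h1).trans hQ).ge (mem_top x)
      exact ⟨⟨y, hy⟩, e⟩⟩
  refine ⟨((MonoidHom.snd Q Y).comp (X.subtype.comp (commutator X).subtype)).comp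
    (MulEquiv.ofBijective _ h3).symm.toMonoidHom, fun x => ?_⟩
  obtain ⟨y, rfl⟩ := (MulEquiv.ofBijective _ h3).surjective x
  simp only [MonoidHom.comp_apply, MulEquiv.coe_toMonoidHom, MulEquiv.symm_apply_apply]
  exact y.1.2.symm

lemma half (g : SU n F q) {u : Fin n → F} (hu : B u u ≠ 0) {η : F} (hη : nm q η = 1) (h2 : (2 : F) ≠ 0) :
    ∃ δ, δ * δ = η * η ∧ B (u + δ • g.1.1 *ᵥ u) (u + δ • g.1.1 *ᵥ u) ≠ 0 := by
  by_contra e
  push Not at e
  have e1 := e η rfl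
  have e2 := e (-η) (by ring)
  simp only [form_add_left, form_add_right, form_smul_left, form_smul_right, su_form, map_neg] at e1 e2
  rw [nm] at hη
  exact mul_ne_zero (mul_ne_zero h2 h2) hu (by linear_combination e1 + e2 - 2 * B u u * hη)

lemma nm_eigen {g : SU n F q} {x : Fin n → F} {c : F} (hx : B x x = 1) (h : g.1.1 *ᵥ x = c • x) :
    nm q c = 1 := by
  have := su_form g x x
  rwa [h, form_smul_left, form_smul_right, hx, mul_one] at this

lemma co_eigen {g : SU n F q} {w : Fin k → Fin n → F} (h : ON q w) {ε : Fin k → F}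
    (hw : ∀ i, g.1.1 *ᵥ w i = ε i • w i) (x : Fin n → F) (i : Fin k) :
    co q w (g.1.1 *ᵥ x) i = ε i * co q w x i := by
  have h1 : ε i * cj q (ε i) = 1 := nm_eigen (h.self i) (hw i)
  rw [co, co, ← su_form g x, hw, form_smul_right, ← mul_assoc, h1, one_mul]

lemma exists_eigen₂ {s t : SU n F q} (ht : t * t = 1) (hs : s * s = 1 ∨ s * s = t) (hc : Commute s t)
    {I : F} (hI : I * I = -1) (hN : nm q I = 1) (h2 : (2 : F) ≠ 0) :
    ∃ (w : Fin n → Fin n → F) (ε ε' : Fin n → F), ON q w ∧ (∀ i, t.1.1 *ᵥ w i = ε i • w i) ∧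
      ∀ i, s.1.1 *ᵥ w i = ε' i • w i := by
  suffices ∀ k ≤ n, ∃ (w : Fin k → Fin n → F) (ε ε' : Fin k → F), ON q w ∧
      (∀ i, t.1.1 *ᵥ w i = ε i • w i) ∧ ∀ i, s.1.1 *ᵥ w i = ε' i • w i from this n le_rfl
  intro k hk
  induction k with
  | zero => exact ⟨![], ![], ![], fun i => i.elim0, fun i => i.elim0, fun i => i.elim0⟩
  | succ k ih =>
    obtain ⟨w, ε, ε', h3, h4, h5⟩ := ih (by omega)
    obtain ⟨v, h6, h7⟩ := h3.exists_perp hk
    obtain ⟨δ, h8, h9⟩ := half t (u := v) (η := 1) (by simp [h6]) (by simp [nm]) h2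
    have h10 : t.1.1 *ᵥ (v + δ • t.1.1 *ᵥ v) = δ • (v + δ • t.1.1 *ᵥ v) := by
      rw [mulVec_add, mulVec_smul, ← su_mul, ht, su_one, smul_add, smul_smul, h8]; simp [add_comm]
    have h11 : co q w (v + δ • t.1.1 *ᵥ v) = 0 := funext fun i => by
      have := co_eigen h3 h4 v i
      simp only [co, funext_iff] at this h7
      simp [co, form_add_left, form_smul_left, this, h7]
    generalize v + δ • t.1.1 *ᵥ v = u at h9 h10 h11
    obtain ⟨η, h12, h13⟩ : ∃ η : F, nm q η = 1 ∧ s.1.1 *ᵥ s.1.1 *ᵥ u = (η * η)⁻¹ • u := by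
      rcases hs with hs | hs
      · exact ⟨1, by simp [nm], by rw [← su_mul, hs]; simp⟩
      rcases mul_self_eq_one_iff.1 (h8.trans (one_mul 1)) with rfl | rfl
      · exact ⟨1, by simp [nm], by rw [← su_mul, hs, h10]; simp⟩
      · exact ⟨I, hN, by rw [← su_mul, hs, h10]; simp [hI]⟩
    obtain ⟨γ, h14, h15⟩ := half s h9 h12 h2
    have h16 : γ ≠ 0 := by rintro rfl; simp [eq_comm, nm_ne h12] at h14
    obtain ⟨c, -, h17⟩ := normalize h15
    refine ⟨_, Fin.cons δ ε, Fin.cons γ⁻¹ ε', h3.cons h17 (funext fun i => ?_),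
      fun i => Fin.cases ?_ h4 i, fun i => Fin.cases ?_ h5 i⟩
    · have := co_eigen h3 h5 u i
      simp only [co, funext_iff] at this h11
      simp [co, form_add_left, form_smul_left, this, h11]
    · simp only [Fin.cons_zero, mulVec_smul, mulVec_add]
      rw [← su_mul t s, ← hc.eq, su_mul, h10, mulVec_smul]; module
    · simp only [Fin.cons_zero, mulVec_smul, mulVec_add, h13, ← h14]
      match_scalars <;> field_simp

section Full

variable {w : Fin n → Fin n → F} (h : ON q w) {g : SU n F q} {ε : Fin n → F}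
include h

lemma ON.prod_eigen (hw : ∀ i, g.1.1 *ᵥ w i = ε i • w i) : ∏ i, ε i = 1 := by
  have h6 : g.1.1 * (of w)ᵀ = (of w)ᵀ * diagonal ε := by
    ext i j; simpa [Matrix.mul_apply, mulVec, dotProduct, mul_comm, diagonal] using congrFun (hw j) i
  have h7 := congrArg det h6
  rwa [det_mul, det_mul, g.1.2, det_diagonal, one_mul, eq_comm, mul_eq_left₀] at h7
  intro e; simpa [e] using congrArg det h.mul

lemma ON.mem_center {c : F} (hw : ∀ i, g.1.1 *ᵥ w i = c • w i) : g ∈ center (SU n F q) := by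
  have : ∀ x, g.1.1 *ᵥ x = c • x := fun x => by
    rw [← h.lc_co x, mulVec_lc]; simp [lc_eq, hw, Finset.smul_sum, smul_comm c]
  exact mem_center_iff.2 fun y => su_ext fun x => by rw [su_mul, su_mul, this, this, mulVec_smul]

lemma ON.fix_of {x : Fin n → F} (hx : ∀ i, co q w x i = 0 ∨ g ∈ fix q (w i)) : g ∈ fix q x := by
  rw [mem_fix, ← h.lc_co x, mulVec_lc, lc_eq, lc_eq]
  exact Finset.sum_congr rfl fun i _ => (hx i).elim (fun e => by simp [e]) fun e => by rw [e]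

lemma ON.mem_range_sub {f : Fin k → Fin n} (hf : Function.Injective f) :
    g ∈ (h.sub f hf).emb.range ↔ ∀ j, (∀ i, f i ≠ j) → g ∈ fix q (w j) := by
  rw [ON.mem_range]
  refine ⟨fun H j hj => H _ (funext fun i => h.ne (hj i).symm), fun H x hx => h.fix_of fun j => ?_⟩
  refine or_iff_not_imp_left.2 fun e => H j ?_
  rintro i rfl
  exact e (congrFun hx i)

lemma ON.simple_fix (hw : ∀ i, g.1.1 *ᵥ w i = ε i • w i) (f : SU 2 F q →* SU n F q)
    (hc : ∀ A, Commute g (f A)) {j : Fin n} (hj : ∀ i, i ≠ j → ε i ≠ ε j) (A : SU 2 F q) :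
    f A ∈ fix q (w j) := by
  obtain ⟨p, k, hp, hc', -⟩ := exists_char_pow F q
  have := Fact.mk hp
  refine (eq_top_of_tv_mem (.inl (by decide)) (H := (fix q (w j)).comap f)
    fun u _ hu c hc'' => ?_).ge (mem_top A)
  refine mem_fix_of_pow (c := co q w ((f (tv q u c)).1.1 *ᵥ w j) j) (p := p) ?_
    (by simp [← map_pow, tv_pow hu hc'', tv_zero])
  conv_lhs => rw [← h.lc_co (_ *ᵥ _), lc_eq]
  refine Finset.sum_eq_single j (fun i _ hi => ?_) (by simp)
  have := co_eigen h hw ((f (tv q u c)).1.1 *ᵥ w j) i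
  rw [← su_mul, (hc _).eq, su_mul, hw, mulVec_smul, co, form_smul_left] at this
  rw [show co q w _ i = 0 from (mul_eq_mul_right_iff.1 this).resolve_left (hj i hi).symm, zero_smul]

lemma ON.range_eq (f : SU 2 F q →* SU n F q) (hf : Function.Injective f) {a b : Fin n} (e : a ≠ b)
    (H : ∀ j, j ≠ a → j ≠ b → ∀ A, f A ∈ fix q (w j)) :
    g ∈ f.range ↔ ∀ j, j ≠ a → j ≠ b → g ∈ fix q (w j) := by
  have h1 : Function.Injective ![a, b] := by
    intro i j; fin_cases i <;> fin_cases j <;> simp [e, e.symm]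
  have h2 : ∀ g, g ∈ (h.sub _ h1).emb.range ↔ ∀ j, j ≠ a → j ≠ b → g ∈ fix q (w j) := fun g => by
    simp [h.mem_range_sub h1, -MonoidHom.mem_range, eq_comm]
  rw [← h2, eq_of_le_of_card_ge (H := f.range) (K := (h.sub _ h1).emb.range)
    (by rintro _ ⟨A, rfl⟩; exact (h2 _).2 fun j h h' => H j h h' A)]
  rw [← Nat.card_congr (MonoidHom.ofInjective hf).toEquiv,
    ← Nat.card_congr (MonoidHom.ofInjective (h.sub _ h1).emb_inj).toEquiv]

end Full

lemma eigen_mul {g g' : SU n F q} {x : Fin n → F} {c c' : F} (h : g.1.1 *ᵥ x = c • x)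
    (h' : g'.1.1 *ᵥ x = c' • x) : (g * g').1.1 *ᵥ x = (c * c') • x := by
  rw [su_mul, h', mulVec_smul, h, smul_smul, mul_comm]

lemma eigen_eq {g : SU n F q} {x : Fin n → F} {c c' : F} (hx : B x x = 1) (h : g.1.1 *ᵥ x = c • x)
    (h' : g.1.1 *ᵥ x = c' • x) : c = c' := by
  simpa [form_smul_left, hx] using congrArg (B · x) (h.symm.trans h')

lemma range_four (f : SU 2 F q →* SU 4 F q) (hf : Function.Injective f) {s : SU 4 F q}
    (hc : ∀ A, Commute s (f A)) (hs : s * s = f neg2) (hz : f neg2 ∉ center _) {I : F}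
    (hI : I * I = -1) (hN : nm q I = 1) (h2 : (2 : F) ≠ 0) {g : SU 4 F q} :
    g ∈ f.range ↔ ∀ x, f neg2 ∈ fix q x → g ∈ fix q x := by
  classical
  have h3 : f neg2 * f neg2 = 1 := by rw [← map_mul, neg2_sq, map_one]
  obtain ⟨w, ε, ε', h, h4, h5⟩ := exists_eigen₂ h3 (.inr hs) (hc _) hI hN h2
  have h6 : ∀ i, ε i = ε' i * ε' i := fun i => eigen_eq (h.self i) (h4 i) (hs ▸ eigen_mul (h5 i) (h5 i))
  have h7 : ∀ i, ε i * ε i = 1 := fun i =>
    eigen_eq (h.self i) (eigen_mul (h4 i) (h4 i)) (by rw [h3, su_one, one_smul])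
  have h8 : (-1 : F) ≠ 1 := fun e => h2 (by linear_combination -e)
  have o : orderOf I = 4 := orderOf_eq_prime_pow (p := 2) (n := 1) (by simp [sq, hI, h8])
    (by rw [show 2 ^ (1 + 1) = 2 * 2 by rfl, pow_mul, sq I, hI]; simp)
  obtain ⟨e, he⟩ : ∃ e : Fin 4 → Fin 4, ∀ i, ε' i = I ^ (e i : ℕ) := by
    refine ⟨fun i => if ε' i = 1 then 0 else if ε' i = I then 1 else if ε' i = -1 then 2 else 3, fun i => ?_⟩
    have := h7 i
    rw [h6] at this
    dsimp only
    split_ifs <;> simp [pow_succ, *]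
    grind
  have h9 : ∀ i, ε i = if (e i : ℕ) % 2 = 0 then 1 else -1 := fun i => by
    rw [h6, he, ← mul_pow, hI, neg_one_pow_eq_pow_mod_two]
    rcases Nat.mod_two_eq_zero_or_one (e i) with h | h <;> simp [h]
  have h10 : ∀ i j, ε' i = ε' j ↔ e i = e j := fun i j => by
    rw [he, he, Fin.ext_iff]
    exact pow_injOn_Iio_orderOf.eq_iff (by simp [o]) (by simp [o])
  have key : ∀ e : Fin 4 → Fin 4, (∑ i, (e i : ℕ)) % 4 = 0 → (∃ i, (e i : ℕ) % 2 = 0) →
      (∃ i, (e i : ℕ) % 2 ≠ 0) → (∀ j, (∀ i, i ≠ j → e i ≠ e j) → (e j : ℕ) % 2 = 0) →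
      ∃ a b, a ≠ b ∧ (e a : ℕ) % 2 ≠ 0 ∧ (e b : ℕ) % 2 ≠ 0 ∧ ∀ j, j ≠ a → j ≠ b →
        (e j : ℕ) % 2 = 0 ∧ ∀ i, i ≠ j → e i ≠ e j := by decide +kernel
  obtain ⟨a, b, e1, e2, e3, e4⟩ := key e (by
      have := h.prod_eigen h5
      simp only [he, Finset.prod_pow_eq_pow_sum, ← orderOf_dvd_iff_pow_eq_one, o] at this
      omega)
    (by by_contra e1; exact hz (h.mem_center fun i => by rw [h4, h9, if_neg (not_exists.1 e1 i)]))
    (by by_contra e1; exact hz (h.mem_center fun i => by rw [h4, h9, if_pos (not_not.1 (not_exists.1 e1 i))]))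
    fun j hj => by
      have := eigen_eq (h.self j) (h4 j) ((h.simple_fix h5 f hc
        (fun i hi => (h10 _ _).not.2 (hj i hi)) neg2).trans (one_smul F _).symm)
      by_contra e1; exact h8 (by rwa [h9, if_neg e1] at this)
  rw [h.range_eq f hf e1 fun j h1 h1' => h.simple_fix h5 f hc fun i hi => (h10 _ _).not.2 ((e4 j h1 h1').2 i hi)]
  refine ⟨fun H x hx => h.fix_of fun j => or_iff_not_imp_left.2 fun e5 => ?_, fun H j h1 h1' =>
    H _ (by rw [mem_fix, h4, h9, if_pos (e4 j h1 h1').1, one_smul])⟩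
  have := co_eigen h h4 x j
  rw [hx, eq_comm, mul_eq_right₀ e5, h9] at this
  exact H j (by rintro rfl; exact h8 (by rwa [if_neg e2] at this))
    (by rintro rfl; exact h8 (by rwa [if_neg e3] at this))

lemma dg_val (c : Fin n → F) (h : ∀ i, nm q (c i) = 1) (hd : ∏ i, c i = 1) :
    (dg c h hd).1.1 = diagonal c := rfl

lemma su_mul_val (A A' : SU n F q) : (A * A').1.1 = A.1.1 * A'.1.1 := rfl

section Four

variable (μ : SU 3 F q →* SU 4 F q) (hμ : Function.Injective μ) {I : F} (hI : I * I = -1)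
  (hN : nm q I = 1) (h2 : (2 : F) ≠ 0)
include hμ h2

lemma not_central : μ (up neg2) ∉ center _ ∧ μ (lo neg2) ∉ center _ ∧
    μ (up neg2 * lo neg2) ∉ center _ := by
  have h8 : (-1 : F) ≠ 1 := fun e => h2 (by linear_combination -e)
  have hz : ∀ (x : SU 3 F q) i j, x.1.1 i i ≠ x.1.1 j j → μ x ∉ center _ := fun x i j h e => by
    obtain ⟨a, ha⟩ := (mem_center_SU_iff (by decide)).1 (show x ∈ center _ from
      mem_center_iff.2 fun g => hμ (by simpa using mem_center_iff.1 e _))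
    simp [ha] at h
  have z0 := hz (up neg2) 2 0 (by simp [up_val, neg2, su2_val, h8.symm])
  have z1 := hz (lo neg2) 0 1 (by simp [lo_val, neg2, su2_val, h8.symm])
  have z2 := hz (up neg2 * lo neg2) 1 0 (by
    simp [su_mul_val, up_val, lo_val, neg2, su2_val, h8.symm])
  exact ⟨z0, z1, z2⟩

include hI hN

lemma range_up_lo : (∀ g, g ∈ (μ.comp up).range ↔ ∀ x, μ (up neg2) ∈ fix q x → g ∈ fix q x) ∧
    ∀ g, g ∈ (μ.comp lo).range ↔ ∀ x, μ (lo neg2) ∈ fix q x → g ∈ fix q x := by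
  obtain ⟨z0, z1, -⟩ := not_central μ hμ h2
  have r0 := fun g => range_four (μ.comp up) (hμ.comp (blk_inj _ _)) (g := g)
    (s := μ (dg ![I, I, -1] (fun i => by fin_cases i <;> simp [hN]; simp [nm])
      (by simp [Fin.prod_univ_three, hI]))) (fun A => Commute.map (su_ext' fun i j => by
        fin_cases i <;> fin_cases j <;> simp [su_mul_val, dg_val, up_val, mul_comm]) μ)
    (by
      rw [← map_mul]
      exact congrArg μ (su_ext' fun i j => by
        fin_cases i <;> fin_cases j <;> simp [su_mul_val, dg_val, up_val, neg2, su2_val, hI])) z0 hI hN h2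
  have r1 := fun g => range_four (μ.comp lo) (hμ.comp (blk_inj _ _)) (g := g)
    (s := μ (dg ![-1, I, I] (fun i => by fin_cases i <;> simp [hN]; simp [nm])
      (by simp [Fin.prod_univ_three, hI]))) (fun A => Commute.map (su_ext' fun i j => by
        fin_cases i <;> fin_cases j <;> simp [su_mul_val, dg_val, lo_val, mul_comm]) μ)
    (by
      rw [← map_mul]
      exact congrArg μ (su_ext' fun i j => by
        fin_cases i <;> fin_cases j <;> simp [su_mul_val, dg_val, lo_val, neg2, su2_val, hI])) z1 hI hN h2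
  exact ⟨r0, r1⟩

lemma exists_frame : ∃ v : Fin 4 → Fin 4 → F, ON q v ∧
    (∀ i, (μ (up neg2)).1.1 *ᵥ v i = (![-1, -1, 1, 1] : Fin 4 → F) i • v i) ∧
    ∀ i, (μ (lo neg2)).1.1 *ᵥ v i = (![1, -1, -1, 1] : Fin 4 → F) i • v i := by
  classical
  have h8 : (-1 : F) ≠ 1 := fun e => h2 (by linear_combination -e)
  obtain ⟨z0, z1, z2⟩ := not_central μ hμ h2
  have s0 : μ (up neg2) * μ (up neg2) = 1 := by rw [← map_mul, ← map_mul, neg2_sq, map_one, map_one]
  have s1 : μ (lo neg2) * μ (lo neg2) = 1 := by rw [← map_mul, ← map_mul, neg2_sq, map_one, map_one]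
  obtain ⟨w, ε, ε', h, h4, h5⟩ := exists_eigen₂ s0 (.inl s1) (Commute.map (su_ext' fun i j => by
    fin_cases i <;> fin_cases j <;> simp [su_mul_val, up_val, lo_val, neg2, su2_val]) μ) hI hN h2
  have h6 : ∀ {t : SU 4 F q} {ε : Fin 4 → F}, t * t = 1 → (∀ i, t.1.1 *ᵥ w i = ε i • w i) →
      ∃ e : Fin 4 → Fin 2, (∀ i, ε i = (-1) ^ (e i : ℕ)) ∧ (∑ i, (e i : ℕ)) % 2 = 0 := fun {t ε} ht hw => by
    have h7 : ∀ i, ε i = (-1) ^ ((if ε i = 1 then 0 else 1 : Fin 2) : ℕ) := fun i => by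
      have := eigen_eq (h.self i) (eigen_mul (hw i) (hw i)) (by rw [ht, su_one, one_smul])
      split_ifs <;> simp [*]
      grind
    refine ⟨_, h7, ?_⟩
    have := h.prod_eigen hw
    rw [funext h7, Finset.prod_pow_eq_pow_sum, neg_one_pow_eq_one_iff_even h8] at this
    exact Nat.even_iff.1 this
  obtain ⟨e, e1, e2⟩ := h6 s0 h4
  obtain ⟨e', e1', e2'⟩ := h6 s1 h5
  have key : ∀ e e' : Fin 4 → Fin 2, (∑ i, (e i : ℕ)) % 2 = 0 → (∑ i, (e' i : ℕ)) % 2 = 0 →
      (¬ ∀ i, e i = e 0) → (¬ ∀ i, e' i = e' 0) → (¬ ∀ i, e i + e' i = e 0 + e' 0) →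
      ∀ x y, ∃ i, e i = x ∧ e' i = y := by decide +kernel
  replace key := key e e' e2 e2' (fun H => z0 (h.mem_center fun i => by rw [h4, e1, H]))
    (fun H => z1 (h.mem_center fun i => by rw [h5, e1', H])) fun H => z2 (by
      rw [map_mul]
      refine h.mem_center (c := (-1) ^ ((e 0 + e' 0 : Fin 2) : ℕ)) fun i => ?_
      rw [eigen_mul (h4 i) (h5 i), e1, e1', ← H i, ← pow_add, neg_one_pow_eq_pow_mod_two]; rfl)
  choose π h9 h10 using key
  have hπ : Function.Injective ![π 1 0, π 1 1, π 0 1, π 0 0] := by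
    have : ∀ a b c d, π a b = π c d ↔ a = c ∧ b = d := fun a b c d =>
      ⟨fun e => ⟨by rw [← h9 a b, e, h9], by rw [← h10 a b, e, h10]⟩, fun e => by rw [e.1, e.2]⟩
    intro i j; fin_cases i <;> fin_cases j <;> simp [this]
  have h' := h.sub _ hπ
  have h11 : ∀ i, (μ (up neg2)).1.1 *ᵥ (w ∘ ![π 1 0, π 1 1, π 0 1, π 0 0]) i =
      (![-1, -1, 1, 1] : Fin 4 → F) i • (w ∘ ![π 1 0, π 1 1, π 0 1, π 0 0]) i := fun i => by
    fin_cases i <;> simp [h4, e1, h9]
  have h12 : ∀ i, (μ (lo neg2)).1.1 *ᵥ (w ∘ ![π 1 0, π 1 1, π 0 1, π 0 0]) i =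
      (![1, -1, -1, 1] : Fin 4 → F) i • (w ∘ ![π 1 0, π 1 1, π 0 1, π 0 0]) i := fun i => by
    fin_cases i <;> simp [h5, e1', h10]
  exact ⟨_, h', h11, h12⟩

lemma frame_four (f : SU 2 F q →* SU 4 F q) (hf : Function.Injective f)
    (hc : ∀ A A', Commute (μ (up A)) (f A')) : ∃ (w : Fin 4 → Fin 4 → F) (h : ON q w),
      (h.emb.comp (blk (k := 2) 0 (by decide))).range = (μ.comp up).range ∧
      (h.emb.comp (blk (k := 2) 1 (by decide))).range = (μ.comp lo).range ∧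
      (h.emb.comp (blk (k := 2) 2 (by decide))).range = f.range := by
  have h8 : (-1 : F) ≠ 1 := fun e => h2 (by linear_combination -e)
  obtain ⟨r0, r1⟩ := range_up_lo μ hμ hI hN h2
  obtain ⟨v, h', h11, h12⟩ := exists_frame μ hμ hI hN h2
  have h13 : ∀ (i : ℕ) (hi : i + 2 ≤ 4) g, g ∈ (h'.emb.comp (blk i hi)).range ↔
      ∀ j : Fin 4, j ≠ ⟨i, by omega⟩ → j ≠ ⟨i + 1, hi⟩ → g ∈ fix q (v j) := fun i hi g =>
    h'.range_eq _ (h'.emb_inj.comp (blk_inj _ _)) (by simp) fun j e e' A => by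
      rw [← lc_single v]
      exact h'.emb_mem_fix.2 (blk_mem_fix _ _ _ (by simp [Fin.ext_iff] at e e'; omega))
  have h14 : ∀ {t g : SU 4 F q} {ε : Fin 4 → F}, (∀ i, t.1.1 *ᵥ v i = ε i • v i) →
      ((∀ x, t ∈ fix q x → g ∈ fix q x) ↔ ∀ j, ε j = 1 → g ∈ fix q (v j)) := fun {t g ε} ht =>
    ⟨fun H j e => H _ (by rw [mem_fix, ht, e, one_smul]), fun H x hx => h'.fix_of fun j =>
      or_iff_not_imp_left.2 fun e => H j (by
        have := co_eigen h' ht x j
        rwa [hx, eq_comm, mul_eq_right₀ e] at this)⟩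
  have h15 : (h'.emb.comp (blk (k := 2) 0 (by decide))).range = (μ.comp up).range := Subgroup.ext fun g => by
    rw [h13, r0]; rw [h14 h11]; simp [Fin.forall_fin_succ, h8]
  refine ⟨v, h', h15, Subgroup.ext fun g => ?_, Subgroup.ext fun g => ?_⟩
  · rw [h13, r1]; rw [h14 h12]; simp [Fin.forall_fin_succ, h8]
  let d : SU 4 F q := dg ![I, -I, 1, 1] (fun i => by fin_cases i <;> simp [nm, show I * _ = _ from hN])
    (by simp [Fin.prod_univ_four, hI])
  have hd : ∀ i, (h'.emb d).1.1 *ᵥ v i = (![I, -I, 1, 1] : Fin 4 → F) i • v i := fun i => by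
    rw [h'.emb_w, ← lc_single v, ← lc_smul]; congr 1; ext j
    rw [dg_mulVec]; by_cases e : j = i <;> simp [e]
  obtain ⟨A, hA⟩ := h15.le ((h13 0 _ _).2 fun j e e' => by
    rw [mem_fix, hd]; fin_cases j <;> simp at e e' ⊢)
  rw [h13, h'.range_eq f hf (a := 2) (b := 3) (by decide) fun j e e' => h'.simple_fix hd f
    (fun A' => hA ▸ hc A A') fun i hi => ?_]
  · rfl
  · fin_cases i <;> fin_cases j <;> simp at e e' hi ⊢ <;> grind

end Four

lemma Std.range_eq (hq : 3 ≤ q) {μ : SU 3 F q →* G} {U U' : Subgroup G} (h : Std μ U U') :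
    μ.range = U ⊔ U' := by
  refine le_antisymm ?_ (sup_le ?_ ?_)
  · rintro _ ⟨x, rfl⟩
    exact (gen_step (n := 0) (.inl hq) (P := (U ⊔ U').comap μ)
      (fun A => mem_sup_left (h.up ▸ ⟨A, rfl⟩)) fun A => mem_sup_right (h.lo ▸ ⟨A, rfl⟩)).ge (mem_top x)
  · rw [← h.up]; rintro _ ⟨x, rfl⟩; exact ⟨_, rfl⟩
  · rw [← h.lo]; rintro _ ⟨x, rfl⟩; exact ⟨_, rfl⟩

lemma Std.ker_le {μ : SU 3 F q →* G} {U U' : Subgroup G} (h : Std μ U U') (hn : 4 ≤ n)
    {g : SU n F q →* G} (hg : μ.range ≤ g.range) : g.ker ≤ center _ :=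
  (normal_le_center_or (by omega) (by omega) g.ker).resolve_right fun e => by
    obtain ⟨x, hx⟩ := hg ⟨Phan.up (su2 0 1 (by simp [nm])), rfl⟩
    have := h.up_inj (hx.symm.trans ((e ((commutator_SU_eq_top (by omega) (by omega)).ge (mem_top x))).trans (map_one _).symm))
    simpa [su2_val] using congrArg (·.1.1 0 0) this

lemma ker_comp_le {g : SU n F q →* G} (hg : g.ker ≤ center _) {f : SU k F q →* SU n F q}
    (hf : Function.Injective f) : (g.comp f).ker ≤ center _ :=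
  fun _ hx => mem_center_iff.2 fun _ => hf (by simpa using mem_center_iff.1 (hg hx) _)

theorem base_three [IsSq F 3] {U V : ℕ → Subgroup G} {μ μ' : SU 3 F 3 →* G}
    (h : Std μ (U 0) (U 1)) (h' : Std μ' (U 1) (U 2)) (hV : μ.range = V 0) (hV' : μ'.range = V 1)
    (hc : ∀ x ∈ U 0, ∀ y ∈ U 2, x * y = y * x) (g : SU 4 F 3 →* G) (hg : g.range = V 0 ⊔ V 1) :
    ∃ φ : SU 4 F 3 →* G, Inv U V φ := by
  have : CharP F 3 := charP_of_card_eq_prime_pow (f := 2) IsSq.card_eq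
  have h2 : (2 : F) ≠ 0 := Ring.two_ne_zero (by simp [ringChar.eq F 3])
  obtain ⟨I, hN, h3, h4⟩ := exists_norm_one_ne F 3
  have hI : I * I = -1 := by rw [cj_apply] at hN; grind
  have h5 := h.ker_le le_rfl (g := g) (by rw [hg, hV]; exact le_sup_left)
  have h6 := St.SU.multiplier (F := F) (q := 3) (n := 3) le_rfl (by simp) (by simp)
  have h7 := commutator_SU_eq_top (F := F) (q := 3) (n := 3) le_rfl (by simp)
  obtain ⟨ρ, h8⟩ := exists_lift h6 h7 g h5 μ (by rw [hg, hV]; exact le_sup_left)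
  obtain ⟨ρ', h8'⟩ := exists_lift h6 h7 g h5 μ' (by rw [hg, hV']; exact le_sup_right)
  have h9 : center (SU 3 F 3) = ⊥ := card_eq_one.1 (card_center_SU (by decide))
  obtain ⟨w, hw, e0, e1, e2⟩ := frame_four ρ ((injective_iff_map_eq_one _).2 fun x hx =>
    h9.le (h.ker (by rw [MonoidHom.mem_ker, ← h8, hx, map_one]))) hI hN h2 (ρ'.comp lo)
    (fun x y e => h'.lo_inj (by simpa [← h8'] using congrArg g e)) (fun A A' => by
      refine mem_centralizer_singleton_iff.1 ((eq_top_of_tv_mem (.inl (by decide))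
        (H := (centralizer {ρ' (lo A')}).comap (ρ.comp up)) fun u _ hu c hc' => ?_).ge (mem_top A))
      have e1 : ρ (up (tv 3 u c)) ^ 3 = 1 := by
        rw [← map_pow, ← map_pow, tv_pow hu hc', CharP.cast_eq_zero]; simp [tv_zero]
      have e0 : μ (up (tv 3 u c)) * μ' (lo A') = _ * μ (up (tv 3 u c)) :=
        hc _ (h.up.le ⟨_, rfl⟩) _ (h'.lo.le ⟨A', rfl⟩)
      have e2 := h5 (x := (ρ (up (tv 3 u c)))⁻¹ * (ρ' (lo A') * ρ (up (tv 3 u c)) * (ρ' (lo A'))⁻¹)) (by
        simp [h8, h8', ← e0])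
      obtain ⟨a, ha⟩ := (mem_center_SU_iff (by decide)).1 e2
      have e3 := eq_one_of_center (x := 𝐞 0) (by decide) e2 (by simp) (mem_fix_of_pow (c := a) (p := 3)
        (by rw [ha, smul_mulVec, one_mulVec]) (by
          rw [Commute.mul_pow, conj_pow, inv_pow, e1]; simp
          simpa using (Commute.refl _).mul_right (show Commute (ρ (up (tv 3 u c))) _ from
            mem_center_iff.1 e2 _)))
      rw [inv_mul_eq_one, eq_mul_inv_iff_mul_eq] at e3
      exact mem_centralizer_singleton_iff.2 e3)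
  have key : ∀ (i : ℕ) (hi : i + 2 ≤ 4) {f : SU 2 F 3 →* SU 4 F 3} {W : Subgroup G} (f' : SU 2 F 3 →* G),
      (hw.emb.comp (blk i hi)).range = f.range → (∀ x, g (f x) = f' x) → f'.range = W →
      ((g.comp hw.emb).comp (blk i hi)).range = W := fun i hi f W f' e e' e'' => by
    rw [MonoidHom.comp_assoc, MonoidHom.range_comp, e, ← MonoidHom.range_comp, ← e'']
    congr 1; exact MonoidHom.ext e'
  have k0 := key 0 _ (μ.comp up) e0 (fun x => h8 _) h.up
  have k1 := key 1 _ (μ.comp lo) e1 (fun x => h8 _) h.lo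
  have k2 := key 2 _ (μ'.comp lo) e2 (fun x => h8' _) h'.lo
  have key' : ∀ (i : ℕ) (hi : i + 3 ≤ 4),
      ((g.comp hw.emb).comp (blk (k := 2) i (by omega))).range = U i →
      ((g.comp hw.emb).comp (blk (k := 2) (i + 1) hi)).range = U (i + 1) →
      Std ((g.comp hw.emb).comp (blk i hi)) (U i) (U (i + 1)) := fun i hi e e' =>
    ⟨ker_comp_le (ker_comp_le h5 hw.emb_inj) (blk_inj _ _),
      (congrArg MonoidHom.range (MonoidHom.ext fun A => by simp [blk_blk])).trans e,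
      (congrArg MonoidHom.range (MonoidHom.ext fun A => by simp [blk_blk])).trans e'⟩
  refine ⟨g.comp hw.emb, fun i hi => ?_⟩
  obtain rfl | rfl : i = 0 ∨ i = 1 := by omega
  · exact ⟨key' _ _ k0 k1, by rw [(key' _ _ k0 k1).range_eq le_rfl, ← hV, h.range_eq le_rfl]⟩
  · exact ⟨key' _ _ k1 k2, by rw [(key' _ _ k1 k2).range_eq le_rfl, ← hV', h'.range_eq le_rfl]⟩

theorem phan_three [IsSq F 3] {U : Fin (n + 3) → Subgroup G}
    {V : Fin (n + 3) → Fin (n + 3) → Subgroup G} (hn : 1 ≤ n)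
    (h1 : ∀ i j : Fin (n + 3), (i : ℕ) + 2 ≤ j → ∀ x ∈ U i, ∀ y ∈ U j, x * y = y * x)
    (h2 : ∀ i j : Fin (n + 3), (i : ℕ) + 1 = j →
      ∃ μ : SU 3 F 3 →* G, Std μ (U i) (U j) ∧ μ.range = V i j)
    (hgen : (⨆ i, U i) ⊔ (⨆ (i : Fin (n + 3)) (j : Fin (n + 3)) (_ : (i : ℕ) + 1 = j), V i j) = ⊤)
    (g : SU 4 F 3 →* ↥(V 0 1 ⊔ V 1 2)) (hg : Function.Surjective g) :
    ∃ f : SU (n + 4) F 3 →* G, Function.Surjective f := by
  obtain ⟨μ, h3, h4⟩ := h2 0 1 rfl
  obtain ⟨μ', h3', h4'⟩ := h2 1 2 rfl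
  exact phan (m := 1) h1 h2 hgen (.inr ⟨le_rfl, le_rfl⟩) (by omega) (base_three h3 h3' h4 h4'
    (h1 0 2 le_rfl) ((Subgroup.subtype _).comp g) (by
      rw [MonoidHom.range_comp, MonoidHom.range_eq_top.2 hg, ← MonoidHom.range_eq_map, range_subtype]
      rfl))

end H63.Phan
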