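import Mathlib
import Cfsg.Agent.Lib.Phan.Rec

/-!
The amalgamation step over the field with four elements.
-/

set_option autoImplicit false
set_option linter.unusedSectionVars false

namespace H63.Phan

open Matrix Cfsg H11.U Subgroup

variable {F : Type*} [Field F] [Fintype F] {q n k l : ℕ} [IsSq F q]

local notation "𝐞" i:max => (Pi.single i 1 : Fin _ → F)
local notation "B" => hermForm _ F q

lemma ON.append {t : Fin k → Fin n → F} {w : Fin l → Fin n → F} (ht : ON q t) (hw : ON q w)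
    (h : ∀ i j, B (t i) (w j) = 0) : ON q (Fin.append t w) := fun i j => by
  refine Fin.addCases (fun i => ?_) (fun i => ?_) i <;> refine Fin.addCases (fun j => ?_) (fun j => ?_) j <;>
    simp only [Fin.append_left, Fin.append_right]
  · simpa using ht i j
  · rw [h, if_neg (by simp [Fin.ext_iff]; omega)]
  · rw [form_eq_zero_symm (h j i), if_neg (by simp [Fin.ext_iff]; omega)]
  · simpa using hw i j

lemma ON.le {w : Fin k → Fin n → F} (h : ON q w) : k ≤ n := by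
  simpa using LinearMap.finrank_le_finrank_of_injective (f := (of w)ᵀ.mulVecLin) h.lc_inj

lemma ON.exists_su' {w w' : Fin k → Fin n → F} (h : ON q w) (h' : ON q w') (j : Fin k) :
    ∃ (g : SU n F q) (c : F), g.1.1 *ᵥ w j = c • w' j ∧ ∀ i, i ≠ j → g.1.1 *ᵥ w i = w' i := by
  obtain ⟨g, hg⟩ := h.exists_gu h'
  have hd := IsIso.det_mul_cj (q := q) (A := g.1.1) g.2
  obtain ⟨r, h1, h2, h3⟩ := exists_gu_det_eq (q := q) (w := w' j) (by simp [h'.self]) (a := cj q g.1.1.det)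
    (by rw [cj_cj, mul_comm, hd])
  obtain ⟨s, hs⟩ : r * g ∈ (suToGU n F q).range := by
    rw [mem_range_suToGU]
    change (r.1.1 * g.1.1).det = 1
    rw [det_mul, h1, mul_comm, hd]
  exact ⟨s, _, by rw [← suToGU_val, hs, gu_mul, hg, h2], fun i hi => by
    rw [← suToGU_val, hs, gu_mul, hg, h3 _ (h'.ne hi)]⟩

lemma hyp {r y : Fin n → F} (hr : B r r = 0) (h : B r y ≠ 0) :
    ∃ u u', ON q ![u, u'] ∧ Sp u u' r ∧ Sp y r u ∧ Sp y r u' := by
  obtain ⟨c, hc⟩ := exists_trace_eq (q := q) (c := 1 - B y y) (by rw [map_sub, map_one, cj_form])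
  have h1 : B (y + (c / B r y) • r) (y + (c / B r y) • r) = 1 := by
    have := form_ne_zero_symm h
    simp only [form_add_left, form_add_right, form_smul_left, form_smul_right, hr, map_div₀, cj_form]
    rw [mul_zero, add_zero, div_mul_cancel₀ _ h, div_mul_cancel₀ _ this]; linear_combination hc
  have h2 : B r (y + (c / B r y) • r) = B r y := by simp [form_add_right, form_smul_right, hr]
  have h3 : Sp y r (y + (c / B r y) • r) := ⟨1, c / B r y, by simp⟩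
  generalize y + (c / B r y) • r = u at h1 h2 h3
  obtain ⟨s, h4, h5⟩ := normalize (q := q) (r := r - B r u • u) (by
    simp only [form_sub_left, form_sub_right, form_smul_left, form_smul_right, hr, h1, ← cj_form r u, h2]
    simpa using h)
  refine ⟨u, _, on_two.2 ⟨h1, h5, by simp [form_sub_right, form_smul_right, h1, cj_form]⟩,
    ⟨B r u, s⁻¹, by simp [h4]⟩, h3, ?_⟩
  simpa [smul_sub, smul_smul, sub_eq_add_neg] using (sp_right y r).comb h3 s (-(s * B r u))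

lemma ON.proj {w : Fin k → Fin n → F} (h : ON q w) (y : Fin n → F) :
    ∃ y', co q w y' = 0 ∧ ∀ r, co q w r = 0 → B r y' = B r y :=
  ⟨_, h.co_sub y, fun r hr => by rw [form_sub_right, form_lc, hr, form_zero_left, sub_zero]⟩

lemma Sp.co {w : Fin k → Fin n → F} {u v a : Fin n → F} (h : Sp u v a) (h1 : co q w u = 0)
    (h2 : co q w v = 0) : co q w a = 0 := funext fun i => form_eq_zero_symm
  (h.perp (form_eq_zero_symm (congrFun h1 i)) (form_eq_zero_symm (congrFun h2 i)))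

lemma ON.hyp {w : Fin k → Fin n → F} (h : ON q w) {r : Fin n → F} (h0 : r ≠ 0) (hr : B r r = 0)
    (h1 : co q w r = 0) : ∃ u u', ON q ![u, u'] ∧ Sp u u' r ∧ co q w u = 0 ∧ co q w u' = 0 := by
  obtain ⟨y, hy⟩ := exists_form_ne_zero q h0
  obtain ⟨y', h2, h3⟩ := h.proj y
  obtain ⟨u, u', h4, h5, h6, h7⟩ := Phan.hyp hr (y := y') (by rwa [h3 r h1])
  exact ⟨u, u', h4, h5, h6.co h2 h1, h7.co h2 h1⟩

namespace Amal

variable {E : Type*} [Group E] {D : Amal F q n E}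

lemma Flat.via (Φ : D.Flat k) {v : Fin k → Fin n → F} (h : ON q v) {a b c d : UV F q n}
    {x y z t : Fin k → F} (ha : a.1 = lc v x) (hb : b.1 = lc v y) (hc : c.1 = lc v z)
    (hd : d.1 = lc v t) : D.cov.Via a c b d := by
  rintro Y Z Z' W W' rfl rfl rfl rfl e h1 h2 h3 h4
  obtain ⟨s, rfl, h6, h7⟩ := Φ.sect h Y ha
  have h8 : ∀ {a : UV F q n} {x}, a.1 = lc v x → hermForm k F q x x = 1 := fun {a x} h' => by
    rw [← h.form, ← h', a.2]
  have h9 : ∀ {x y Z}, (D.cov.p (s x)).1 = lc v x → (D.cov.p Z).1 = lc v y → D.cov.A (s x) Z → Z = s y :=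
    fun {x y Z} hx hy h => D.cov.uniq h (h7 x y (h8 hx) (h8 hy) (by rw [← hx, ← hy]; exact D.cov.map h))
      (Subtype.ext (by rw [hy, h6 y (h8 hy)]))
  obtain rfl := h9 ha hb h1
  obtain rfl := h9 ha hd h2
  rw [h9 hb hc h3, h9 hd (by rw [e, hc]) h4]

/-- Lifts of the group of a plane commuting with the given one. -/
structure Flat.Comm (Φ : D.Flat k) where
  /-- a unit vector of the flat -/
  e : Fin k → F
  he : hermForm k F q e e = 1
  co_e : co q Φ.w e = 0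
  /-- the frame of the plane -/
  t : Fin 3 → Fin n → F
  on : ON q t
  perp : ∀ i j, B (t i) (D.w j) = 0
  lc_e : lc Φ.v e = t 2
  /-- the lift -/
  κ : SU 3 F q →* E
  mem : ∀ m, κ m ∈ D.H
  πκ : ∀ m, D.π (κ m) = on.emb m
  comm : ∀ m m', Commute (κ m) (D.ν m')

lemma Flat.Comm.via {Φ : D.Flat k} (Ψ : Φ.Comm) {t w : Fin 3 → Fin n → F} (ht : ON q t) (hw : ON q w)
    (h : ∀ i j, B (t i) (w j) = 0) {a b c d : UV F q n} {x y : Fin 3 → F} (ha : a.1 = w 2)
    (hb : b.1 = t 2) (hc : c.1 = lc w x) (hd : d.1 = lc t y) : D.cov.Via a c b d := by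
  obtain ⟨g, s, h1, h2⟩ := (Ψ.on.append D.on Ψ.perp).exists_su' (ht.append hw h) (Fin.castAdd 3 0)
  have h3 : ∀ i, g.1.1 *ᵥ D.w i = w i := fun i => by
    simpa only [Fin.append_right] using h2 (Fin.natAdd 3 i) (Fin.ne_of_val_ne (by simp))
  have h4 : ∀ i, i ≠ 0 → g.1.1 *ᵥ Ψ.t i = t i := fun i hi => by
    simpa only [Fin.append_left] using h2 (Fin.castAdd 3 i) fun e => hi (Fin.castAdd_inj.1 e)
  simp only [Fin.append_left] at h1
  have h5 : s ≠ 0 := by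
    rintro rfl; simpa [h1, form_zero_left, Ψ.on.self] using su_form g (Ψ.t 0) (Ψ.t 0)
  have h6 : d.1 = g.1.1 *ᵥ lc Ψ.t ![s⁻¹ * y 0, y 1, y 2] := by
    rw [mulVec_lc, hd, lc_eq, lc_eq]; simp [Fin.sum_univ_three, h1, h4, smul_smul, mul_comm s⁻¹, h5]
  obtain ⟨m, hm⟩ := (on_one.2 (on_id.self 2)).exists_su (w' := ![x])
    (on_one.2 (by rw [← hw.form, ← hc, c.2])) (by decide)
  obtain ⟨m', hm'⟩ := (on_one.2 (on_id.self 2)).exists_su (w' := ![![s⁻¹ * y 0, y 1, y 2]])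
    (on_one.2 (by rw [← Ψ.on.form, ← su_form g, ← h6, d.2])) (by decide)
  obtain ⟨l, hl⟩ := (on_one.2 (Φ.on'.self 2)).exists_su (on_one.2 Ψ.he) (by have := Φ.hk; omega)
  replace hm : m.1.1 *ᵥ 𝐞 2 = x := hm 0
  replace hm' : m'.1.1 *ᵥ 𝐞 2 = _ := hm' 0
  replace hl : l.1.1 *ᵥ Φ.w 2 = Ψ.e := hl 0
  rintro Y Z Z' W W' rfl rfl rfl rfl e f1 f2 f3 f4
  obtain ⟨γ, rfl, hγ⟩ : ∃ γ : E, Y = γ ∧ D.π γ = g := by
    obtain ⟨γ, rfl⟩ := QuotientGroup.mk_surjective Y
    obtain ⟨δ, h7, h8⟩ := D.surj ((D.π γ)⁻¹ * g) (by rw [mem_fix, su_mul, h3, ← ha, cov_p, su_inv_mul])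
    exact ⟨γ * δ, QuotientGroup.eq.2 (by simpa), by simp [h8]⟩
  have h7 : ∀ γ : E, D.cov.A γ (γ * Φ.κ l : E) := fun γ => by
    simpa using Φ.adj γ (m := 1) (m' := l) (adj_of_perp (by
      rw [su_one, hl]; exact form_eq_zero_symm (congrFun Ψ.co_e 2)))
  have h8 : ∀ γ : E, D.cov.A (γ * Φ.κ l : E) (γ * D.ν m : E) := fun γ => by
    rw [← Φ.κν]
    exact Φ.adj γ (adj_of_perp (by rw [hl, Φ.on'.emb_w, form_lc, Ψ.co_e, form_zero_left]))
  have h9 : (D.π (Φ.κ l)).1.1 *ᵥ D.w 2 = Ψ.t 2 := by rw [Φ.πκ, ← Φ.lc_w, Φ.on.emb_lc, hl, Ψ.lc_e]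
  have h10 : (D.cov.p (γ * D.ν m : E)).1 = lc w x := by
    rw [cov_p, map_mul, su_mul, D.πν, D.on.emb_w, hm, hγ, mulVec_lc, funext h3]
  have h11 : ((γ * Ψ.κ m' * D.ν m : E) : E ⧸ D.H) = (γ * D.ν m : E) := QuotientGroup.eq.2 (by
    simpa [mul_assoc, (Ψ.comm m' m).eq] using Ψ.mem m')
  obtain rfl := D.cov.uniq f1 (h7 γ) (Subtype.ext (by
    rw [hb, cov_p, map_mul, su_mul, h9, hγ, h4 2 (by decide)]))
  obtain rfl := D.cov.uniq f2 (z' := (γ * Ψ.κ m' * Φ.κ l : E))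
    (by rw [QuotientGroup.eq.2 (show γ⁻¹ * (γ * Ψ.κ m') ∈ D.H by simpa using Ψ.mem m')]; exact h7 _)
    (Subtype.ext (by
      rw [h6, cov_p, map_mul, map_mul, su_mul, su_mul, h9, hγ, Ψ.πκ, Ψ.on.emb_w, hm']; rfl))
  rw [D.cov.uniq f3 (h8 γ) (Subtype.ext (by rw [hc, h10])),
    D.cov.uniq f4 (h11 ▸ h8 _) (Subtype.ext (by rw [e, hc, h10]))]

end Amal

section Two

variable [IsSq F 2]

local notation "B₂" => hermForm _ F 2

lemma nm_two {x : F} (h : x ≠ 0) : nm 2 x = 1 := by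
  rw [nm, mul_cj, ← FiniteField.pow_card_sub_one_eq_one x h, IsSq.card_eq (q := 2)]; rfl

lemma Adj.two {a b : Fin n → F} (h : Adj 2 a b) : B₂ a b = 0 ∨ ∃ c : F, b = c • a :=
  h.imp_left fun h => by_contra fun e => h (nm_two e)

lemma Adj.smul_right {a b : Fin n → F} (h : Adj 2 a b) (c : F) : Adj 2 a (c • b) :=
  h.two.elim (fun h => adj_of_perp (by rw [form_smul_right, h, mul_zero]))
    fun ⟨d, h⟩ => .inr ⟨c * d, by rw [h, smul_smul]⟩

lemma iso_of_not_adj {a c : Fin n → F} (ha : B₂ a a = 1) (hc : B₂ c c = 1) (h : ¬ Adj 2 a c) :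
    ∃ (s : F) (r : Fin n → F), c = s • a + r ∧ r ≠ 0 ∧ B₂ r r = 0 ∧ B₂ r a = 0 ∧
      ∀ x, B₂ a x = 0 → B₂ c x = 0 → B₂ r x = 0 := by
  rw [Adj, not_or, not_not, nm_form, nm] at h
  refine ⟨B₂ c a, c - B₂ c a • a, by simp, fun e => h.2 ⟨_, sub_eq_zero.1 e⟩, ?_,
    by simp [form_sub_left, form_smul_left, ha], fun x h1 h2 => by simp [form_sub_left, form_smul_left, *]⟩
  simp only [form_sub_left, form_sub_right, form_smul_left, form_smul_right, ha, hc, ← cj_form c a]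
  linear_combination -h.1

lemma Amal.quad_two {E : Type*} [Group E] {D : Amal F 2 n E} (Φ : D.Flat 4) (Ψ : 6 ≤ n → Φ.Comm)
    (a b c d : UV F 2 n) (h1 : D.cov.R a b) (h2 : D.cov.R b c) (h3 : D.cov.R a d) (h4 : D.cov.R d c) :
    D.cov.Via a c b d := by
  have hn : 5 ≤ n := Φ.lt
  by_cases h5 : D.cov.R a c
  · exact Cov.via_of_T' (D.good.T_five hn h1 h5 h2) (D.good.T_five hn h3 h5 h4)
  by_cases h6 : D.cov.R b d
  · exact Cov.via_of_T (D.good.T_five hn h1 h3 h6)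
      (D.good.T_five hn (D.cov.R_symm h2) (D.cov.R_symm h4) h6)
  have key : ∀ {a b c : UV F 2 n}, D.cov.R a b → D.cov.R a c → ¬ D.cov.R c b → B₂ a.1 b.1 = 0 :=
    fun {a b c} h h' e => (Adj.two h).resolve_right fun ⟨s, hs⟩ =>
      e (show Adj 2 c.1 b.1 from hs ▸ Adj.smul_right (D.cov.R_symm h') s)
  have ab := key h1 h3 fun e => h6 (D.cov.R_symm e)
  have ad := key h3 h1 h6
  have cb := key (D.cov.R_symm h2) (D.cov.R_symm h4) fun e => h6 (D.cov.R_symm e)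
  have cd := key (D.cov.R_symm h4) (D.cov.R_symm h2) h6
  obtain ⟨s, r, e1, e2, e3, e4, e5⟩ := iso_of_not_adj a.2 c.2 h5
  obtain ⟨s', r', f1, f2, f3, f4, f5⟩ := iso_of_not_adj b.2 d.2 h6
  have g1 := e5 _ ab cb
  have g2 := f5 _ (form_eq_zero_symm ab) (form_eq_zero_symm ad)
  have g3 := f5 _ (form_eq_zero_symm g1) (form_eq_zero_symm (e5 _ ad cd))
  have g4 := on_two.2 ⟨a.2, b.2, ab⟩
  by_cases h7 : ∃ t : F, r = t • r'
  · obtain ⟨t, rfl⟩ := h7
    obtain ⟨u, u', i1, ⟨x, y, rfl⟩, i2, i3⟩ := g4.hyp f2 f3 (co_two.2 ⟨g2, f4⟩)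
    have i4 := g4.append i1 fun i j => form_eq_zero_symm (by
      fin_cases j; exacts [congrFun i2 i, congrFun i3 i])
    rw [show Fin.append ![a.1, b.1] ![u, u'] = ![a.1, b.1, u, u'] by
      funext i; fin_cases i <;> rfl] at i4
    exact Φ.via i4 (x := ![1, 0, 0, 0]) (y := ![0, 1, 0, 0])
      (z := ![s, 0, t * x, t * y]) (t := ![0, s', x, y]) (by simp [lc_eq, Fin.sum_univ_four])
      (by simp [lc_eq, Fin.sum_univ_four]) (by simp [e1, lc_eq, Fin.sum_univ_four, smul_smul, add_assoc])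
      (by simp [f1, lc_eq, Fin.sum_univ_four, add_assoc])
  obtain ⟨y, i1, i2⟩ := exists_perp_not_perp (q := 2) f2 (not_exists.1 h7)
  obtain ⟨y', i3, i4⟩ := g4.proj y
  obtain ⟨u, u', j1, ⟨x, x', j2⟩, j3, j4⟩ := hyp e3 (y := y') (by rwa [i4 r (co_two.2 ⟨e4, g1⟩)])
  obtain ⟨j5, j6⟩ := co_two.1 (j3.co i3 (co_two.2 ⟨e4, g1⟩))
  obtain ⟨j7, j8⟩ := co_two.1 (j4.co i3 (co_two.2 ⟨e4, g1⟩))
  have j9 : B₂ r' y' = 0 := by rw [i4 r' (co_two.2 ⟨g2, f4⟩), i1]
  obtain ⟨k1, k2, k3⟩ := on_two.1 j1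
  have hw := on_three.2 ⟨k1, k2, a.2, k3, j5, j7⟩
  have k4 : co 2 ![u, u', a.1] b.1 = 0 :=
    co_three.2 ⟨form_eq_zero_symm j6, form_eq_zero_symm j8, form_eq_zero_symm ab⟩
  obtain ⟨v, v', l1, ⟨z, z', l2⟩, l3, l4⟩ := (hw.cons b.2 k4).hyp f2 f3 (funext fun i => by
    fin_cases i; exacts [f4, j3.perp j9 g3, j4.perp j9 g3, g2])
  obtain ⟨m1, m2, m3⟩ := on_two.1 l1
  have ht := on_three.2 ⟨m1, m2, b.2, m3, congrFun l3 0, congrFun l4 0⟩
  have htw : ∀ i j, B₂ (![v, v', b.1] i) (![u, u', a.1] j) = 0 := fun i j => by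
    fin_cases i; exacts [congrFun l3 j.succ, congrFun l4 j.succ, congrFun k4 j]
  exact (Ψ (ht.append hw htw).le).via ht hw htw (x := ![x, x', s]) (y := ![z, z', s']) rfl rfl
    (by simp [e1, j2, lc_three, add_comm]) (by simp [f1, l2, lc_three, add_comm])

variable {G : Type*} [Group G]

theorem step_two (ψ : SU (n + 4) F 2 →* G) (κ : SU 4 F 2 →* G)
    (h1 : ∀ A : SU 3 F 2, ψ (blk (n + 1) le_rfl A) = κ (blk 0 (by decide) A))
    (h2 : ∀ (A : SU (n + 3) F 2) (A' : SU 2 F 2),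
      Commute (ψ (blk 0 (by omega) A)) (κ (blk 2 le_rfl A')))
    (h3 : ∀ i (hi : i + 1 = n) (A A' : SU 3 F 2),
      Commute (ψ (blk i (by omega) A)) (κ (blk 1 le_rfl A'))) :
    ∃ φ : SU (n + 5) F 2 →* G, (∀ A, φ (blk 0 (by omega) A) = ψ A) ∧
      ∀ A, φ (blk (n + 1) le_rfl A) = κ A := by
  let D := amal (n := n + 1) (.inr (by omega)) ψ (κ.comp (blk 1 le_rfl))
    (fun A => by rw [← blk_blk (n + 1) 1 le_rfl (by decide), h1]; simp [blk_blk])
    fun A A' => by simpa [blk_blk] using h2 A A'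
  let Φ : D.Flat 4 :=
    { v := _
      on := on_blk (n + 1) le_rfl
      w := _
      on' := on_blk 1 le_rfl
      hk := by decide
      lt := by omega
      lc_w := fun i => by simp [lc_single, D, amal, ← add_assoc]
      κ := (blk (n + 1) le_rfl).prod κ
      πκ := fun _ => rfl
      κν := fun m => Prod.ext (blk_blk (n + 1) 1 le_rfl le_rfl m) rfl
      le := fun m hm => by
        obtain ⟨A, rfl⟩ := exists_first hm
        exact ⟨blk (n + 1) le_rfl A, Prod.ext (by simp [blk_blk]) (h1 A)⟩ }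
  have Ψ : 6 ≤ n + 1 + 4 → Φ.Comm := fun hn =>
    { e := 𝐞 0
      he := on_id.self 0
      co_e := funext fun i => by simp [Φ, co, form_single_single, Fin.ext_iff]; omega
      t := _
      on := on_blk (n - 1) (by omega)
      perp := fun i j => by simp [D, amal, form_single_single]; omega
      lc_e := by simp [Φ, lc_single]; congr 2; omega
      κ := ((blk 0 (by omega)).prod ψ).comp (blk (n - 1) (by omega))
      mem := fun m => ⟨_, rfl⟩
      πκ := fun m => (blk_blk 0 (n - 1) (by omega) (by omega) m).trans (blk_congr (by simp) _ _)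
      comm := fun m m' => Prod.ext (by
        simpa [D, amal, blk_blk] using (blk_commute _ _ (by omega) m m').eq) (h3 _ (by omega) m m') }
  obtain ⟨σ, h⟩ := D.exists_section fun _ _ =>
    Cov.eq_of_reach (Amal.quad_two Φ Ψ) (D.good.pent_five (by omega))
  exact ⟨(MonoidHom.snd _ _).comp σ, fun A => congrArg Prod.snd (h _ (D.le_S ⟨A, rfl⟩)),
    fun A => congrArg Prod.snd (h _ (Φ.mem_S (.inr le_rfl) A))⟩

end Two

end H63.Phan
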