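import Mathlib
import Cfsg.Agent.Lib.Phan.Three
import Cfsg.Agent.Lib.Phan.TwoGeo

/-!
Weak Phan systems over the field with four elements.
-/

set_option autoImplicit false
set_option linter.unusedSectionVars false

namespace H63.Phan

open Matrix Cfsg H11.U Subgroup

variable {F : Type*} [Field F] [Fintype F] {q n k : ℕ} [IsSq F q] {G : Type*} [Group G]

local notation "𝐞" i:max => (Pi.single i 1 : Fin _ → F)

lemma blk_apply (i : ℕ) (h : i + k ≤ n) (A : SU k F q) (a b : Fin k) :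
    (blk i h A).1.1 ⟨i + a, by omega⟩ ⟨i + b, by omega⟩ = A.1.1 a b := by
  have := congrFun ((on_blk i h).emb_w A b) ⟨i + a, by omega⟩
  rw [mulVec_single_one, mulVec_single_one, lc_eq, Finset.sum_apply, Finset.sum_eq_single a
    (fun j _ hj => by simp [Pi.single_apply, Fin.ext_iff, Fin.val_ne_of_ne hj.symm]) (by simp)] at this
  simpa [blk] using this

lemma saut_blk (c : Fin n → F) (hc : ∀ i, nm q (c i) = 1) (θ : F ≃+* F) (i : ℕ) (h : i + k ≤ n)
    (A : SU k F q) : saut c hc θ (blk i h A) =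
      blk i h (saut (fun j => c ⟨i + j, by omega⟩) (fun _ => hc _) θ A) := by
  obtain ⟨A', hA⟩ := exists_blk i h (g := saut c hc θ (blk i h A)) fun j hj => funext fun a => by
    have := congrFun (blk_mem_fix i h A hj) a
    simp only [mulVec_single_one, col_apply] at this ⊢
    rw [saut_apply, this]
    by_cases e : a = j
    · simpa [e, nm] using hc j
    · simp [e]
  rw [← hA]; congr 1
  exact su_ext' fun a b => by rw [← blk_apply i h, hA, saut_apply, saut_apply, blk_apply]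

lemma Inv.comp_saut {U V : ℕ → Subgroup G} {φ : SU n F q →* G} (h : Inv U V φ) (c : Fin n → F)
    (hc : ∀ i, nm q (c i) = 1) (θ : F ≃+* F) : Inv U V (φ.comp (saut c hc θ)) := fun i hi => by
  have := (h i hi).1.comp_saut (fun j => c ⟨i + j, by omega⟩) (fun _ => hc _) θ
  rw [(h i hi).2] at this
  rwa [show (φ.comp (saut c hc θ)).comp (blk i hi) = (φ.comp (blk i hi)).comp (saut _ _ θ) from
    MonoidHom.ext fun A => congrArg φ (saut_blk c hc θ i hi A)]

lemma blk_comp_inj {φ : SU n F q →* G} (h : φ.ker ≤ center _) (i : ℕ) (hi : i + k ≤ n)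
    (hk : k < n) (hn : 2 ≤ n) :
    Function.Injective (φ.comp (blk i hi)) := (injective_iff_map_eq_one _).2 fun A e => by
  obtain ⟨j, hj⟩ : ∃ j : Fin n, j < i ∨ i + k ≤ j := by
    rcases i with _ | i
    exacts [⟨⟨k, hk⟩, by simp⟩, ⟨⟨0, by omega⟩, by simp⟩]
  exact blk_inj _ _ ((eq_one_of_center (x := 𝐞 j) hn (h e) (by simp)
    (blk_mem_fix _ _ _ hj)).trans (map_one _).symm)

lemma conj_lo (l : F) (h : nm q l + nm q 0 = 1) : up (su2 0 1 (by simp [nm])) * lo (su2 l 0 h) =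
    up (su2 l 0 h) * lo (su2 l 0 h) * up (su2 0 1 (by simp [nm])) := su_ext' fun i j => by
  simp only [nm, map_zero, mul_zero, add_zero] at h
  fin_cases i <;> fin_cases j <;> simp [su_mul_val, up_val, lo_val, su2_val, mul_comm, h]

lemma saut_scal {c c' : F} (h : c * cj q c = 1) (h1 h2) (θ : F ≃+* F) (A : SU 2 F q) :
    saut ![1, c'] h1 θ A = saut ![c, c * c'] h2 θ A :=
  su_ext' fun i j => by fin_cases i <;> fin_cases j <;> simp [saut_apply] <;> grind

lemma ON.mem_range_blk {v : Fin 4 → Fin 4 → F} (h : ON q v) (i : ℕ) (hi : i + k ≤ 4) {g : SU 4 F q} :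
    g ∈ (h.emb.comp (blk i hi)).range ↔ ∀ j : Fin 4, j < i ∨ i + k ≤ j → g ∈ fix q (v j) := by
  obtain ⟨g, rfl⟩ := Finite.injective_iff_surjective.1 h.emb_inj g
  simp only [← lc_single v, h.emb_mem_fix]
  refine ⟨fun ⟨A, e⟩ j hj => ?_, fun H => (exists_blk i hi H).imp fun _ e => congrArg h.emb e⟩
  rw [← h.emb_inj (show h.emb (blk i hi A) = _ from e)]
  exact blk_mem_fix _ _ _ hj

lemma ON.emb_dg {v : Fin k → Fin n → F} (h : ON q v) (c : Fin k → F) (hc hd) (i : Fin k) :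
    (h.emb (dg c hc hd)).1.1 *ᵥ v i = c i • v i := by
  rw [h.emb_w, ← lc_single v, ← lc_smul]; congr 1; ext j
  rw [dg_mulVec]; by_cases e : j = i <;> simp [e]

lemma ON.range_last {v : Fin 4 → Fin 4 → F} (h : ON q v) (f : SU 2 F q →* SU 4 F q)
    (hf : Function.Injective f) (hc : ∀ (A : SU 2 F q) A', Commute (h.emb (blk 0 (by decide) A)) (f A')) :
    (h.emb.comp (blk (k := 2) 2 le_rfl)).range = f.range := Subgroup.ext fun g => by
  obtain ⟨l, h1, h2, h3⟩ := exists_norm_one_ne F q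
  have h5 : cj q l ≠ 1 ∧ cj q l ≠ l := by clear hc; grind
  have hd := h.emb_dg ![l, cj q l, 1, 1] (fun i => by fin_cases i <;> simp [nm, cj_cj, mul_comm, h1])
    (by simp [Fin.prod_univ_four, h1])
  obtain ⟨A, hA⟩ := (h.mem_range_blk (k := 2) 0 (by decide)).2 fun j e => by
    rw [mem_fix, hd]; fin_cases j <;> simp at e ⊢
  have h4 := hc A
  rw [show h.emb (blk 0 _ A) = _ from hA] at h4
  rw [h.mem_range_blk, h.range_eq f hf (a := 2) (b := 3) (by decide) fun j e e' => h.simple_fix hd f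
    h4 fun i hi => ?_]
  · simp [Fin.forall_fin_succ]
  · fin_cases i <;> fin_cases j <;> simp [h5, h5.2.symm, h5.1.symm, h2.symm] at e e' hi ⊢

lemma ON.fix_eq {v : Fin 4 → Fin 4 → F} (h : ON q v) {e : Fin 4 → F} (he : hermForm 4 F q e e = 1)
    (h1 : (h.emb.comp (blk (k := 2) 1 (by decide))).range ≤ fix q e)
    (h2 : (h.emb.comp (blk (k := 2) 2 le_rfl)).range ≤ fix q e) :
    (h.emb.comp (blk (k := 3) 1 le_rfl)).range = fix q e := Subgroup.ext fun g => by
  obtain ⟨l, h3, h4, -⟩ := exists_norm_one_ne F q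
  have d1 := h.emb_dg ![1, l, cj q l, 1] (fun i => by fin_cases i <;> simp [nm, cj_cj, mul_comm, h3])
    (by simp [Fin.prod_univ_four, h3])
  have d2 := h.emb_dg ![1, 1, cj q l, l] (fun i => by fin_cases i <;> simp [nm, cj_cj, mul_comm, h3])
    (by simp [Fin.prod_univ_four, h3, mul_comm])
  have e1 := co_eigen h d1 e
  have e2 := co_eigen h d2 e
  rw [h1 ((h.mem_range_blk _ _).2 fun j e => by rw [mem_fix, d1]; fin_cases j <;> simp at e ⊢)] at e1
  rw [h2 ((h.mem_range_blk _ _).2 fun j e => by rw [mem_fix, d2]; fin_cases j <;> simp at e ⊢)] at e2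
  have f1 := e1 1
  have f2 := e1 2
  have f3 := e2 3
  simp only [cons_val] at f1 f2 f3
  have h5 : e = co q v e 0 • v 0 := by
    conv_lhs => rw [← h.lc_co e, lc_eq]
    simp [Fin.sum_univ_four, show co q v e 1 = 0 by grind, show co q v e 2 = 0 by grind,
      show co q v e 3 = 0 by grind]
  rw [h.mem_range_blk, h5, mem_fix, mulVec_smul, (smul_right_injective _ fun e => ?_).eq_iff]
  · simp [Fin.forall_fin_succ, mem_fix]
  · rw [h5, e, zero_smul, form_zero_left] at he; exact zero_ne_one he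

lemma Std.swap {μ : SU 3 F q →* G} {U U' : Subgroup G} (h : Std μ U U') :
    ∃ μ' : SU 3 F q →* G, Std μ' U' U ∧ (Function.Injective μ' → Function.Injective μ) := by
  have h1 := on_std (F := F) (q := q) (Fin.rev : Fin 3 → Fin 3) Fin.rev_injective
  have h2 := Finite.injective_iff_surjective.1 h1.emb_inj
  have h3 : ∀ i, (fix q (𝐞 i)).map h1.emb = fix q (𝐞 (Fin.rev i)) := fun i => by
    rw [← lc_single (fun i => 𝐞 (Fin.rev i)), ← map_comap_eq_self_of_surjective h2 (fix q (lc _ _))]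
    congr 1; ext; exact h1.emb_mem_fix.symm
  have h4 := std_of_fix μ h.ker h1
  have h5 := std_of_fix μ h.ker on_id
  rw [h3, h3] at h4
  rw [show on_id.emb = .id _ from MonoidHom.ext emb_id, Subgroup.map_id, Subgroup.map_id] at h5
  exact ⟨μ.comp h1.emb, ⟨h4.ker, h4.up.trans (h5.lo.symm.trans h.lo), h4.lo.trans (h5.up.symm.trans h.up)⟩,
    fun e => Function.Injective.of_comp_right e h2⟩

lemma gen_three {P : Subgroup (SU (n + 3) F q)} (h : ∀ i h (A : SU 3 F q), blk i h A ∈ P) : P = ⊤ := by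
  induction n with
  | zero => exact eq_top_iff.2 fun A _ => blk_id _ A ▸ h 0 le_rfl A
  | succ n ih =>
    refine gen_step (.inr (by omega)) (fun A => ?_) fun A =>
      blk_blk (n + 1) 1 le_rfl le_rfl A ▸ h _ _ (lo A)
    have := ih (P := P.comap (blk 0 (by omega))) fun i hi A => by
      rw [Subgroup.mem_comap, blk_blk]; exact h _ _ _
    exact (this.ge (Subgroup.mem_top A) :)

variable [IsSq F 2]

local notation "B" => hermForm _ F 2

instance : CharP F 2 := charP_of_card_eq_prime_pow (f := 2) IsSq.card_eq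

lemma cube {x : F} (h : x ≠ 0) : x ^ 3 = 1 := (mul_cj x).symm.trans (nm_two h)

lemma exists_omega : ∃ ω : F, ω ^ 2 + ω + 1 = 0 := by
  obtain ⟨a, h1, h2, -⟩ := exists_norm_one_ne F 2
  exact ⟨a, by rw [cj_apply] at h1; grind⟩

lemma tv_mem {P : Subgroup (SU 3 F 2)} (h1 : ∀ A, up A ∈ P) (h2 : ∀ A, lo A ∈ P) (w : Fin 3 → F)
    (c : F) : tv 2 w c ∈ P := by
  by_cases h : B w w = 0 ∧ cj 2 c = -c
  swap; · rw [tv_of_not h]; exact one_mem _
  have h3 : ∀ w : Fin 3 → F, B w w = 0 → ∀ i, w i = 0 → tv 2 w c ∈ fix 2 (𝐞 i) := fun w hw i e => by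
    simp [mem_fix, tv_mulVec hw h.2, form_single_one_left, e, -mulVec_single]
  by_cases h4 : w 2 = 0
  · obtain ⟨A, e⟩ := exists_up (h3 w h.1 2 h4); exact e ▸ h1 A
  by_cases h5 : w 0 = 0
  · obtain ⟨A, e⟩ := exists_lo (h3 w h.1 0 h5); exact e ▸ h2 A
  have h6 : w 1 = 0 := by
    by_contra h6
    have := h.1
    rw [form_def, Fin.sum_univ_three, ← nm, ← nm, ← nm, nm_two h4, nm_two h5, nm_two h6] at this
    grind
  obtain ⟨A, e⟩ := exists_lo (h3 ((up (su2 0 1 (by simp [nm]))).1.1 *ᵥ w) (by rw [su_form, h.1]) 0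
    (by simp [up_val, su2_val, mulVec, dotProduct, Fin.sum_univ_three, h6]))
  rw [← conj_tv] at e
  simpa [e, mul_assoc] using mul_mem (mul_mem (inv_mem (h1 (su2 0 1 (by simp [nm])))) (h2 A))
    (h1 (su2 0 1 (by simp [nm])))

lemma gen_pow_four {P : Subgroup (SU 3 F 2)} (h : ∀ g, g ^ 4 = 1 → g ∈ P) : P = ⊤ := by
  have h1 : TW 2 ⊤ ≤ P := (closure_le _).2 (by
    rintro _ ⟨w, -, c, rfl⟩
    by_cases e : B w w = 0 ∧ cj 2 c = -c
    · exact h _ (by rw [tv_pow e.1 e.2, show ((4 : ℕ) : F) = 0 by grind, zero_mul, tv_zero])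
    · rw [tv_of_not e]; exact one_mem _)
  have h2 : B ![1, 1, 0] ![1, 1, 0] = 0 := by simp [form_def, Fin.sum_univ_three]; grind
  refine eq_top_iff.2 fun g _ => ?_
  obtain ⟨m, h3, -, h4⟩ := nondeg_top.rel_isotropic (by simp) trivial trivial (u := ![1, 1, 0])
    (by simp) (su_ne_zero g (u := ![1, 1, 0]) (by simp)) h2 (by rw [su_form, h2])
  have h5 : m⁻¹ * g ∈ fix 2 ![1, 1, 0] := by rw [mem_fix, su_mul, ← h4, su_inv_mul]
  suffices (m⁻¹ * g) ^ 4 = 1 by simpa using mul_mem (h1 h3) (h _ this)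
  generalize m⁻¹ * g = s at h5
  have h6 : ∀ j, s.1.1 0 j + s.1.1 1 j = ![1, 1, 0] j := fun j => by
    have := su_form s (𝐞 j) ![1, 1, 0]
    rw [h5, form_single_one_left] at this
    fin_cases j <;> simpa [form_def, Fin.sum_univ_three] using this
  have h7 := s.1.2
  rw [det_fin_three] at h7
  have a0 := congrFun h5 0
  have a1 := congrFun h5 1
  have a2 := congrFun h5 2
  have b0 := h6 0
  have b1 := h6 1
  have b2 := h6 2
  simp [mulVec, dotProduct, Fin.sum_univ_three] at a0 a1 a2 b0 b1 b2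
  have h8 : (s.1.1 - 1) ^ 3 = 0 := by
    have : s.1.1 2 2 = 1 := by grind
    ext i j
    fin_cases i <;> fin_cases j <;> simp [pow_three, Matrix.mul_apply, Fin.sum_univ_three] <;> grind
  have h9 := pow_eq_zero_of_le (by decide : 3 ≤ 2 ^ 2) h8
  rw [sub_pow_char_pow_of_commute _ _ (Commute.one_right _), one_pow, sub_eq_zero] at h9
  exact Subtype.ext (Subtype.ext h9)

lemma eq_of_blocks {β β' : SU 3 F 2 →* SU 3 F 2} (h : Function.Bijective β')
    (h1 : ∀ A, β (up A) = β' (up A)) (h2 : ∀ A, β (lo A) = β' (lo A)) : β = β' := by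
  let γ := (MulEquiv.ofBijective β' h).symm.toMonoidHom.comp β
  have h3 : ∀ x, β' (γ x) = β x := fun x => (MulEquiv.ofBijective β' h).apply_symm_apply _
  have h4 : ∀ w c, γ (tv 2 w c) = tv 2 w c := tv_mem (P := γ.eqLocus (.id _))
    (fun A => h.1 (by rw [h3, h1]; rfl)) fun A => h.1 (by rw [h3, h2]; rfl)
  refine MonoidHom.ext fun x => (h3 x).symm.trans (congrArg β' ((gen_pow_four (P := γ.eqLocus (.id _))
    fun g hg => ?_).ge (mem_top x)))
  obtain ⟨a, ha⟩ := exists_eq_smul_of_forall_isotropic (q := 2) (A := (g⁻¹ * γ g).1.1) (fun v hv =>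
    exists_smul_of_conj_tv (g := suToGU _ _ _ (g⁻¹ * γ g)) one_ne_zero (by
      rw [← tv_val hv (by grind)]
      refine congrArg (·.1.1) (show g⁻¹ * γ g * tv 2 v 1 = tv 2 v 1 * (g⁻¹ * γ g) from ?_)
      have := h4 (g.1.1 *ᵥ v) 1
      rw [← conj_tv, map_mul, map_mul, h4, map_inv, mul_inv_eq_iff_eq_mul] at this
      rw [mul_assoc, this]; group)) (by decide)
  have h5 := (mem_center_SU_iff (by decide)).2 ⟨a, ha⟩
  have h6 : (g⁻¹ * γ g) ^ 4 = 1 := by
    rw [Commute.mul_pow, inv_pow, ← map_pow, hg]; simp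
    simpa using (Commute.refl g).mul_right (show Commute g _ from mem_center_iff.1 h5 _)
  have h7 : (g⁻¹ * γ g) ^ 3 = 1 := Subtype.ext (Subtype.ext (by
    change (g⁻¹ * γ g).1.1 ^ 3 = 1
    rw [ha, smul_pow, one_pow, cube, one_smul]
    rintro rfl
    have := (g⁻¹ * γ g).1.2
    rw [ha] at this; simp at this))
  rw [pow_succ, h7, one_mul, inv_mul_eq_one] at h6
  exact h6.symm

lemma aut_two_two (α : SU 2 F 2 →* SU 2 F 2) (hα : Function.Injective α) :
    ∃ c hc θ, α = saut ![1, c] hc θ := aut_diag α hα fun x hx => by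
  have h1 : x ^ 3 = 1 := su_ext' fun i j => by
    obtain ⟨-, f2, -, -, f3⟩ := su_two x
    rw [hx, map_zero, eq_comm, neg_eq_zero] at f2
    have := cube (x := x.1.1 0 0) (by grind)
    have := cube (x := x.1.1 1 1) (by grind)
    fin_cases i <;> fin_cases j <;> simp [pow_three, Matrix.mul_apply, hx, f2] <;> grind
  replace h1 : α x ^ 3 = 1 := by rw [← map_pow, h1, map_one]
  generalize α x = y at h1
  by_contra h2
  obtain ⟨f1, f2, -, -, f3⟩ := su_two y
  have h3 : y.1.1 0 0 = 0 := (nm_eq_zero (q := 2)).1 (by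
    have := nm_two h2
    rw [nm] at this ⊢; grind)
  rw [h3, map_zero] at f1
  simpa [pow_three, Matrix.mul_apply, h3, ← f1] using congrArg (·.1.1 0 0) h1

lemma aut_three {β : SU 3 F 2 →* SU 3 F 2} (h2 : ∃ c hc θ, ∀ A, β (up A) = up (saut ![1, c] hc θ A))
    (h3 : ∃ c hc θ, ∀ A, β (lo A) = lo (saut ![1, c] hc θ A)) : ∃ c hc θ, β = saut c hc θ := by
  obtain ⟨c, hc, θ, h2⟩ := h2
  obtain ⟨c', hc', θ', h3⟩ := h3
  replace hc : c * cj 2 c = 1 := hc 1
  obtain rfl : θ = θ' := RingEquiv.ext fun l => by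
    by_cases hl : l = 0
    · simp [hl]
    have := congrArg (fun x => (β x).1.1 0 1) (conj_lo l (by simp [nm_two hl]))
    simp only [map_mul, h2, h3, su_mul_val, up_val, lo_val, saut_apply, su2_val] at this
    simpa [Matrix.mul_apply, Fin.sum_univ_three, show c ≠ 0 from nm_ne hc, mul_comm] using this.symm
  have h4 : ∀ i, nm 2 (![1, c, c * c'] i) = 1 := fun i => nm_two (by
    fin_cases i <;> simp [show c ≠ 0 from nm_ne hc, show c' ≠ 0 from nm_ne (hc' 1)])
  exact ⟨_, h4, θ, eq_of_blocks (saut_bij _ _ θ) (fun A => (h2 A).trans (saut_up _ h4 θ A).symm) fun A =>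
      (h3 A).trans ((congrArg lo (saut_scal hc _ _ θ A)).trans (saut_lo _ h4 θ A).symm)⟩

lemma Std.exists_saut {a b : SU 3 F 2 →* G} {U U' : Subgroup G} (ha : Std a U U') (hb : Std b U U')
    (hi : Function.Injective b) (h : a.range = b.range) : ∃ c hc θ, a = b.comp (saut c hc θ) := by
  let β : SU 3 F 2 →* SU 3 F 2 := (MonoidHom.ofInjective hi).symm.toMonoidHom.comp
    (a.codRestrict _ fun x => h.le ⟨x, rfl⟩)
  have h1 : ∀ x, b (β x) = a x := fun x => MonoidHom.apply_ofInjective_symm hi _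
  have key : ∀ f : SU 2 F 2 →* SU 3 F 2, Function.Injective (a.comp f) → Function.Injective (b.comp f) →
      (a.comp f).range = (b.comp f).range → ∃ c hc θ, ∀ A, β (f A) = f (saut ![1, c] hc θ A) :=
    fun f h2 h3 h4 => by
    let α : SU 2 F 2 →* SU 2 F 2 := (MonoidHom.ofInjective h3).symm.toMonoidHom.comp
      ((a.comp f).codRestrict _ fun x => h4.le ⟨x, rfl⟩)
    have h5 : ∀ x, b (f (α x)) = a (f x) := fun x => MonoidHom.apply_ofInjective_symm h3 _
    obtain ⟨c, hc, θ, e⟩ := aut_two_two α fun x y e => h2 (by simp [← h5, e])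
    exact ⟨c, hc, θ, fun A => hi (by rw [h1, ← e, h5])⟩
  obtain ⟨c, hc, θ, e⟩ := aut_three (key _ ha.up_inj hb.up_inj (ha.up.trans hb.up.symm))
    (key _ ha.lo_inj hb.lo_inj (ha.lo.trans hb.lo.symm))
  exact ⟨c, hc, θ, MonoidHom.ext fun x => by rw [← h1, e]; rfl⟩

lemma third (g : SU n F 2) {u : Fin n → F} (hu : B u u ≠ 0) (hg : g ^ 3 = 1) :
    ∃ (v : Fin n → F) (δ : F), B v v ≠ 0 ∧ g.1.1 *ᵥ v = δ • v ∧
      ∃ a b : F, v = u + a • g.1.1 *ᵥ u + b • g.1.1 *ᵥ g.1.1 *ᵥ u := by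
  obtain ⟨ω, hω⟩ := exists_omega (F := F)
  obtain ⟨δ, h1, h2⟩ : ∃ δ : F, δ ^ 3 = 1 ∧ B (u + δ • g.1.1 *ᵥ u + δ ^ 2 • g.1.1 *ᵥ g.1.1 *ᵥ u)
      (u + δ • g.1.1 *ᵥ u + δ ^ 2 • g.1.1 *ᵥ g.1.1 *ᵥ u) ≠ 0 := by
    by_contra e
    push Not at e
    have e1 := e 1 (by simp)
    have e2 := e ω (by grind)
    have e3 := e (ω ^ 2) (by grind)
    simp only [form_add_left, form_add_right, form_smul_left, form_smul_right, su_form, cj_apply]
      at e1 e2 e3
    grind
  refine ⟨_, δ ^ 2, h2, ?_, _, _, rfl⟩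
  have : g.1.1 *ᵥ g.1.1 *ᵥ g.1.1 *ᵥ u = u := by rw [← su_mul, ← su_mul, ← pow_three', hg, su_one]
  simp only [mulVec_add, mulVec_smul, this]
  match_scalars <;> grind

lemma exists_eigen₃ {s t : SU n F 2} (hs : s ^ 3 = 1) (ht : t ^ 3 = 1) (hc : Commute s t) :
    ∃ (w : Fin n → Fin n → F) (ε ε' : Fin n → F), ON 2 w ∧ (∀ i, t.1.1 *ᵥ w i = ε i • w i) ∧
      ∀ i, s.1.1 *ᵥ w i = ε' i • w i := by
  suffices ∀ k ≤ n, ∃ (w : Fin k → Fin n → F) (ε ε' : Fin k → F), ON 2 w ∧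
      (∀ i, t.1.1 *ᵥ w i = ε i • w i) ∧ ∀ i, s.1.1 *ᵥ w i = ε' i • w i from this n le_rfl
  intro k hk
  induction k with
  | zero => exact ⟨![], ![], ![], fun i => i.elim0, fun i => i.elim0, fun i => i.elim0⟩
  | succ k ih =>
    obtain ⟨w, ε, ε', h3, h4, h5⟩ := ih (by omega)
    obtain ⟨v, h6, h7⟩ := h3.exists_perp hk
    have key : ∀ {g : SU n F 2} {ε : Fin k → F} {v : Fin n → F} (a b : F),
        (∀ i, g.1.1 *ᵥ w i = ε i • w i) → co 2 w v = 0 →
        co 2 w (v + a • g.1.1 *ᵥ v + b • g.1.1 *ᵥ g.1.1 *ᵥ v) = 0 := fun {g ε v} a b h h' => funext fun i => by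
      have e1 := co_eigen h3 h v i
      have e2 := co_eigen h3 h (g.1.1 *ᵥ v) i
      simp only [co, funext_iff] at e1 e2 h' ⊢
      simp [form_add_left, form_smul_left, e1, e2, h', -mulVec_mulVec]
    obtain ⟨u, δ, h8, h9, a, b, h10⟩ := third t (u := v) (by simp [h6]) ht
    obtain ⟨u', δ', h11, h12, a', b', h13⟩ := third s h8 hs
    obtain ⟨c, -, h17⟩ := normalize h11
    refine ⟨_, Fin.cons δ ε, Fin.cons δ' ε', h3.cons h17 (funext fun i => ?_),
      fun i => Fin.cases ?_ h4 i, fun i => Fin.cases ?_ h5 i⟩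
    · have := congrFun (key a' b' h5 (key a b h4 h7)) i
      rw [← h10, ← h13, co] at this
      simp [co, form_smul_left, this]
    · have : ∀ x, t.1.1 *ᵥ s.1.1 *ᵥ x = s.1.1 *ᵥ t.1.1 *ᵥ x := fun x => by rw [← su_mul, ← hc.eq, su_mul]
      simp only [Fin.cons_zero, mulVec_smul, mulVec_add, h13, this, h9]; module
    · simp only [Fin.cons_zero, mulVec_smul, h12]; module

lemma exists_extraspecial {ω : F} (hω : ω ^ 2 + ω + 1 = 0) : ∃ x y z : SU 3 F 2, z ∈ center _ ∧ z ≠ 1 ∧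
    x ^ 3 = 1 ∧ z ^ 3 = 1 ∧ y * x = x * z * y := by
  have h0 : ω ≠ 0 := by grind
  let z : SU 3 F 2 := dg ![ω, ω, ω] (fun i => nm_two (by fin_cases i <;> simpa)) (by
    simp [Fin.prod_univ_three]; grind)
  let x : SU 3 F 2 := dg ![ω ^ 2, ω, 1] (fun i => nm_two (by fin_cases i <;> simp [h0])) (by
    simp [Fin.prod_univ_three]; grind)
  let y : SU 3 F 2 := up (su2 0 1 (by simp [nm])) * lo (su2 0 1 (by simp [nm]))
  have hz : z ∈ center _ := (mem_center_SU_iff (by decide)).2 ⟨ω, by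
    ext i j; fin_cases i <;> fin_cases j <;> simp [z, dg_val]⟩
  have h1 : ∀ {d : SU 3 F 2} {c hc hd}, d = dg c hc hd → d ^ 3 = 1 := by
    rintro _ c hc hd rfl
    refine Subtype.ext (Subtype.ext ?_)
    change diagonal c ^ 3 = 1
    rw [diagonal_pow, ← diagonal_one]; congr 1; exact funext fun i => cube (nm_ne (hc i))
  have h2 : y * x = x * z * y := su_ext' fun i j => by
    fin_cases i <;> fin_cases j <;> simp [x, y, z, dg_val, up_val, lo_val, su2_val] <;> grind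
  refine ⟨x, y, z, hz, fun e => ?_, h1 rfl, h1 rfl, h2⟩
  have := congrArg (·.1.1 0 0) e
  simp [z, dg_val] at this; grind

lemma range_three (ρ : SU 3 F 2 →* SU 4 F 2) (hρ : Function.Injective ρ) :
    ∃ (w : Fin 3 → Fin 4 → F) (h : ON 2 w) (e : Fin 4 → F), B e e = 1 ∧ co 2 w e = 0 ∧
      ρ.range = h.emb.range ∧ ρ.range = fix 2 e := by
  classical
  obtain ⟨ω, hω⟩ := exists_omega (F := F)
  obtain ⟨x, y, z, hz, h0, h1, h1', h2⟩ := exists_extraspecial hω
  have h3 : ∀ g, Commute (ρ z) (ρ g) := fun g => Commute.map (mem_center_iff.1 hz g).symm ρ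
  obtain ⟨w, ε, ε', h, h4, h5⟩ := exists_eigen₃ (by rw [← map_pow, h1, map_one])
    (by rw [← map_pow, h1', map_one]) (h3 x).symm
  have o : orderOf ω = 3 := orderOf_eq_prime (by grind) (by grind)
  have h6 : ∀ {g : SU 4 F 2} {ε : Fin 4 → F}, (∀ i, g.1.1 *ᵥ w i = ε i • w i) →
      ∃ e : Fin 4 → Fin 3, ∀ i, ε i = ω ^ (e i : ℕ) := fun {g ε} hg => by
    refine ⟨fun i => if ε i = 1 then 0 else if ε i = ω then 1 else 2, fun i => ?_⟩
    have := cube (nm_ne (nm_eigen (h.self i) (hg i)))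
    dsimp only
    split_ifs <;> simp [*]
    grind
  obtain ⟨e, he⟩ := h6 h4
  obtain ⟨e', he'⟩ := h6 h5
  have h7 : ∀ a b : Fin 3, ω ^ (a : ℕ) = ω ^ (b : ℕ) ↔ a = b := fun a b => by
    rw [Fin.ext_iff]; exact pow_injOn_Iio_orderOf.eq_iff (by simp [o]) (by simp [o])
  have key : ∀ e e' : Fin 4 → Fin 3, (∑ i, (e i : ℕ)) % 3 = 0 → (¬ ∀ i, e i = 0) →
      (∀ j, ∃ i, e i = e j ∧ e' j = e' i + e i) → ∃ j, ∀ i, i ≠ j → e i ≠ e j := by decide +kernel
  obtain ⟨j, hj⟩ := key e e' (by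
      have := h.prod_eigen h4
      simp only [he, Finset.prod_pow_eq_pow_sum, ← orderOf_dvd_iff_pow_eq_one, o] at this
      omega)
    (fun H => h0 (hρ (su_ext fun v => by
      rw [map_one, su_one]; exact h.fix_of fun i => .inr (by rw [mem_fix, h4, he, H]; simp))))
    fun j => by
      obtain ⟨i, hi⟩ := Function.ne_iff.1 fun e : co 2 w ((ρ y).1.1 *ᵥ w j) = 0 => by
        have := su_form (ρ y) (w j) (w j)
        rw [← h.lc_co (_ *ᵥ _), e, lc_zero, form_zero_left, h.self] at this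
        exact zero_ne_one this
      have e1 := co_eigen h h4 ((ρ y).1.1 *ᵥ w j) i
      have e2 := co_eigen h h5 ((ρ z).1.1 *ᵥ (ρ y).1.1 *ᵥ w j) i
      rw [e1, ← su_mul, ← su_mul, ← map_mul, ← map_mul, ← h2, map_mul, su_mul, h5, mulVec_smul, co,
        form_smul_left, ← mul_assoc] at e2
      rw [← su_mul, (h3 y).eq, su_mul, h4, mulVec_smul, co, form_smul_left] at e1
      refine ⟨i, (h7 _ _).1 (by rw [← he, ← he, mul_right_cancel₀ hi e1]), (h7 _ _).1 ?_⟩
      rw [← he', mul_right_cancel₀ hi e2, he, he', ← pow_add, Fin.val_add, ← pow_mod_orderOf, o]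
  have h8 : ρ.range ≤ fix 2 (w j) := by
    rintro _ ⟨g, rfl⟩
    refine (gen_pow_four (P := (fix 2 (w j)).comap ρ) fun g hg => ?_).ge (mem_top g)
    have h9 : (ρ g).1.1 *ᵥ w j = co 2 w ((ρ g).1.1 *ᵥ w j) j • w j := by
      conv_lhs => rw [← h.lc_co (_ *ᵥ _), lc_eq]
      refine Finset.sum_eq_single j (fun i _ hi => ?_) (by simp)
      have := co_eigen h h4 ((ρ g).1.1 *ᵥ w j) i
      rw [← su_mul, (h3 _).eq, su_mul, h4, mulVec_smul, co, form_smul_left, he, he] at this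
      rw [show co 2 w _ i = 0 from (mul_eq_mul_right_iff.1 this).resolve_left
        ((h7 _ _).not.2 (hj i hi).symm), zero_smul]
    have h10 := eigen_eq (h.self j) (eigen_mul h9 h9) ((mem_fix_of_pow (p := 2) (eigen_mul h9 h9)
      (by rw [← sq, ← pow_mul, ← map_pow, hg, map_one])).trans (one_smul F _).symm)
    rw [mem_comap, mem_fix, h9, show co 2 w _ j = 1 by grind, one_smul]
  have h9 : (h.sub _ j.succAbove_right_injective).emb.range = fix 2 (w j) := Subgroup.ext fun g => by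
    rw [h.mem_range_sub j.succAbove_right_injective]
    exact ⟨fun H => H j j.succAbove_ne, fun H i hi => by
      rwa [show i = j by by_contra e; exact (Fin.exists_succAbove_eq e).elim hi]⟩
  have h10 : ρ.range = fix 2 (w j) := eq_of_le_of_card_ge h8 (by
    rw [← h9, ← Nat.card_congr (MonoidHom.ofInjective hρ).toEquiv,
      ← Nat.card_congr (MonoidHom.ofInjective (ON.emb_inj _)).toEquiv])
  exact ⟨_, _, w j, h.self j, funext fun i => h.ne (j.succAbove_ne i).symm, h10.trans h9.symm, h10⟩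

lemma frame_three (β : SU 3 F 2 →* SU 3 F 2) (hβ : Function.Injective β) :
    ∃ (u : Fin 3 → Fin 3 → F) (h : ON 2 u), (h.emb.comp up).range = (β.comp up).range ∧
      (h.emb.comp lo).range = (β.comp lo).range := by
  obtain ⟨e, h1, h2⟩ := range_eq_fix (β.comp up) (hβ.comp (blk_inj _ _))
  obtain ⟨e', h1', h2'⟩ := range_eq_fix (β.comp lo) (hβ.comp (blk_inj _ _))
  obtain ⟨ω, hω⟩ := exists_omega (F := F)
  let d : SU 2 F 2 := su2 ω 0 (by simpa using nm_two (by grind))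
  have o : orderOf d = 3 := orderOf_eq_prime (su_ext' fun i j => by
    fin_cases i <;> fin_cases j <;> simp [d, pow_three, su2_val, cj_apply] <;> grind) fun e => by
    have := congrArg (·.1.1 0 0) e
    simp [d, su2_val] at this; grind
  rcases perp_of_comm h1 h1' (h2.le ⟨d, rfl⟩) (h2'.le ⟨d, rfl⟩) (Commute.map (su_ext' fun i j => by
      fin_cases i <;> fin_cases j <;> simp [d, up_val, lo_val, su2_val, mul_comm]) β)
    ((orderOf_injective (β.comp up) (hβ.comp (blk_inj _ _)) d).trans o)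
    ((orderOf_injective (β.comp lo) (hβ.comp (blk_inj _ _)) d).trans o) with h6 | h6
  swap
  · obtain ⟨A, hA⟩ := (h2.trans (h6.trans h2'.symm)).le ⟨su2 0 1 (by simp [nm]), rfl⟩
    simpa [up_val, lo_val, su2_val] using congrArg (·.1.1 0 0) (hβ hA)
  obtain ⟨v, h7, h8⟩ := (on_two.2 ⟨h1', h1, h6⟩).exists_perp (by decide)
  have h := on_three.2 ⟨h1', h7, h1, form_eq_zero_symm (co_two.1 h8).1, h6, (co_two.1 h8).2⟩
  have h10 : ∀ i, (fix 2 (𝐞 i)).map h.emb = fix 2 (![e', v, e] i) := fun i => by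
    rw [← lc_single ![e', v, e], ← map_comap_eq_self_of_surjective
      (Finite.injective_iff_surjective.1 h.emb_inj) (fix 2 (lc _ _))]
    congr 1; ext; exact h.emb_mem_fix.symm
  have := std_of_fix (.id _) (by simp) h
  rw [h10, h10, Subgroup.map_id, Subgroup.map_id] at this
  exact ⟨_, h, h2 ▸ this.up, h2' ▸ this.lo⟩

lemma frame_two (ρ ρ' : SU 3 F 2 →* SU 4 F 2) (hρ : Function.Injective ρ) (hρ' : Function.Injective ρ')
    (h0 : (ρ.comp lo).range = (ρ'.comp up).range) (hc : ∀ A A', Commute (ρ (up A)) (ρ' (lo A'))) :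
    ∃ (v : Fin 4 → Fin 4 → F) (h : ON 2 v),
      (h.emb.comp (blk (k := 2) 0 (by decide))).range = (ρ.comp up).range ∧
      (h.emb.comp (blk (k := 2) 1 (by decide))).range = (ρ.comp lo).range ∧
      (h.emb.comp (blk (k := 2) 2 (by decide))).range = (ρ'.comp lo).range ∧
      (h.emb.comp (blk (k := 3) 0 (by decide))).range = ρ.range ∧
      (h.emb.comp (blk (k := 3) 1 (by decide))).range = ρ'.range := by
  obtain ⟨w, hw, e, h1, h2, h3, -⟩ := range_three ρ hρ
  obtain ⟨-, -, e', h1', -, -, h3'⟩ := range_three ρ' hρ'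
  let β : SU 3 F 2 →* SU 3 F 2 := (MonoidHom.ofInjective hw.emb_inj).symm.toMonoidHom.comp
    (ρ.codRestrict _ fun x => h3.le ⟨x, rfl⟩)
  have h4 : hw.emb.comp β = ρ := MonoidHom.ext fun x => MonoidHom.apply_ofInjective_symm hw.emb_inj _
  obtain ⟨u, hu, h5, h6⟩ := frame_three β fun x y e => hρ (by simp [← h4, e])
  have h := (hw.comp hu).append (on_one.2 h1) fun i j => form_eq_zero_symm (by
    rw [form_lc, Subsingleton.elim j 0]; erw [h2]; rw [form_zero_left])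
  have h7 : h.emb.comp (blk (k := 3) 0 (by decide)) = hw.emb.comp hu.emb := MonoidHom.ext fun A =>
    (h.emb_comp _ A).trans ((DFunLike.congr_fun (ON.emb_congr _ _ (funext fun i => by
      rw [lc_single]; fin_cases i <;> rfl)) A).trans (hw.emb_comp hu A).symm)
  have h8 : ∀ (i : ℕ) (hi : i + 2 ≤ 3), (hu.emb.comp (blk i hi)).range = (β.comp (blk i hi)).range →
      (h.emb.comp (blk (k := 2) i (by omega))).range = (ρ.comp (blk i hi)).range := fun i hi e => by
    rw [← h4, MonoidHom.comp_assoc, MonoidHom.range_comp _ (β.comp _), ← e, ← MonoidHom.range_comp,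
      ← MonoidHom.comp_assoc, ← h7]
    exact congrArg MonoidHom.range (MonoidHom.ext fun A => by simp [blk_blk])
  have h9 := h.range_last (ρ'.comp lo) (hρ'.comp (blk_inj _ _)) fun A A' => by
    obtain ⟨A, hA⟩ := (h8 0 _ h5).le ⟨A, rfl⟩
    exact (show ρ (up A) = _ from hA) ▸ hc A A'
  refine ⟨_, h, h8 0 _ h5, h8 1 _ h6, h9, ?_, (h.fix_eq h1' ?_ ?_).trans h3'.symm⟩
  · rw [h7, MonoidHom.range_comp, MonoidHom.range_eq_top.2 (Finite.injective_iff_surjective.1 hu.emb_inj),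
      ← MonoidHom.range_eq_map, h3]
  · rw [h8 1 _ h6, h0, ← h3']; rintro _ ⟨x, rfl⟩; exact ⟨_, rfl⟩
  · rw [h9, ← h3']; rintro _ ⟨x, rfl⟩; exact ⟨_, rfl⟩

lemma Std.inj_two {a b : SU 3 F 2 →* G} {U U' U'' : Subgroup G} (ha : Std a U U') (hb : Std b U' U'')
    (hc : ∀ x ∈ U, ∀ y ∈ U'', x * y = y * x) : Function.Injective b :=
  (injective_iff_map_eq_one _).2 fun x hx => by
    obtain ⟨c, h⟩ := (mem_center_SU_iff (by decide)).1 (hb.ker hx)
    have h0 : c ≠ 0 := by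
      rintro rfl
      have := x.1.2
      rw [h] at this; simp at this
    have h1 := cube h0
    let d : SU 2 F 2 := su2 c 0 (by simpa using nm_two h0)
    have h2 : Phan.up d = x * Phan.lo d := su_ext' fun i j => by
      rw [su_mul_val, h]
      fin_cases i <;> fin_cases j <;> simp [d, up_val, lo_val, su2_val, cj_apply] <;> grind
    obtain ⟨z, hz⟩ : b (Phan.up d) ∈ (a.comp Phan.lo).range := by rw [ha.lo, ← hb.up]; exact ⟨d, rfl⟩
    obtain rfl := ha.eq_one_of_comm (z := z) fun A => by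
      rw [show a (Phan.lo z) = _ from hz, h2, map_mul, hx, one_mul]
      exact hc _ (ha.up.le ⟨A, rfl⟩) _ (hb.lo.le ⟨d, rfl⟩)
    have h3 : d = 1 := hb.up_inj (by simpa using hz.symm)
    simpa [h3] using h2.symm

theorem base_two {U V : ℕ → Subgroup G} {μ μ' : SU 3 F 2 →* G}
    (h : Std μ (U 0) (U 1)) (h' : Std μ' (U 1) (U 2)) (hV : μ.range = V 0) (hV' : μ'.range = V 1)
    (hc : ∀ x ∈ U 0, ∀ y ∈ U 2, x * y = y * x) (g : SU 4 F 2 →* G) (hg : g.range = V 0 ⊔ V 1) :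
    ∃ φ : SU 4 F 2 →* G, Inv U V φ := by
  have h1 : μ.range ≤ g.range := by rw [hg, hV]; exact le_sup_left
  have h1' : μ'.range ≤ g.range := by rw [hg, hV']; exact le_sup_right
  have h5 := h.ker_le le_rfl h1
  have h2 : Function.Injective g := (MonoidHom.ker_eq_bot_iff g).1
    (eq_bot_iff.2 (h5.trans (card_eq_one.1 (card_center_SU (by decide))).le))
  have key : ∀ μ : SU 3 F 2 →* G, μ.range ≤ g.range → ∃ ρ : SU 3 F 2 →* SU 4 F 2, g.comp ρ = μ :=
    fun μ e => ⟨(MonoidHom.ofInjective h2).symm.toMonoidHom.comp (μ.codRestrict _ fun x => e ⟨x, rfl⟩),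
      MonoidHom.ext fun x => MonoidHom.apply_ofInjective_symm h2 _⟩
  obtain ⟨a, h3, h4⟩ := h.swap
  obtain ⟨b, h3', -⟩ := h'.swap
  replace h4 := h4 (h3'.inj_two h3 fun x hx y hy => (hc y hy x hx).symm)
  have h4' := h.inj_two h' hc
  obtain ⟨ρ, rfl⟩ := key μ h1
  obtain ⟨ρ', rfl⟩ := key μ' h1'
  obtain ⟨w, hw, e0, e1, e2, e3, e4⟩ := frame_two ρ ρ' (Function.Injective.of_comp h4)
    (Function.Injective.of_comp h4') (map_injective h2 (by
      rw [← MonoidHom.range_comp, ← MonoidHom.range_comp]; exact h.lo.trans h'.up.symm))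
    fun A A' => Commute.of_map h2 (hc _ (h.up.le ⟨A, rfl⟩) _ (h'.lo.le ⟨A', rfl⟩))
  have key : ∀ {k l} {f : SU k F 2 →* SU 4 F 2} {f' : SU l F 2 →* SU 4 F 2},
      (hw.emb.comp f).range = f'.range → ((g.comp hw.emb).comp f).range = (g.comp f').range := fun e => by
    rw [MonoidHom.comp_assoc, MonoidHom.range_comp, e, ← MonoidHom.range_comp]
  have key' : ∀ (i : ℕ) (hi : i + 3 ≤ 4),
      ((g.comp hw.emb).comp (blk (k := 2) i (by omega))).range = U i →
      ((g.comp hw.emb).comp (blk (k := 2) (i + 1) hi)).range = U (i + 1) →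
      Std ((g.comp hw.emb).comp (blk i hi)) (U i) (U (i + 1)) := fun i hi e e' =>
    ⟨ker_comp_le (ker_comp_le h5 hw.emb_inj) (blk_inj _ _),
      (congrArg MonoidHom.range (MonoidHom.ext fun A => by simp [blk_blk])).trans e,
      (congrArg MonoidHom.range (MonoidHom.ext fun A => by simp [blk_blk])).trans e'⟩
  refine ⟨g.comp hw.emb, fun i hi => ?_⟩
  obtain rfl | rfl : i = 0 ∨ i = 1 := by omega
  · exact ⟨key' _ _ ((key e0).trans h.up) ((key e1).trans h.lo), (key e3).trans hV⟩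
  · exact ⟨key' _ _ ((key e1).trans h.lo) ((key e2).trans h'.lo), (key e4).trans hV'⟩

theorem amalgam_two {N : ℕ} {U V : ℕ → Subgroup G}
    (hs : ∀ i, i + 4 ≤ N → ∃ κ : SU 4 F 2 →* G, Inv (fun j => U (i + j)) (fun j => V (i + j)) κ)
    (h5 : ∀ i j, j + 3 ≤ i → i + 2 ≤ N → ∀ x ∈ U i, ∀ y ∈ V j, x * y = y * x)
    (h6 : ∀ i j, i + 3 ≤ j → j + 3 ≤ N → ∀ x ∈ V i, ∀ y ∈ V j, x * y = y * x) (hn : n + 4 ≤ N) :
    ∃ φ : SU (n + 4) F 2 →* G, Inv U V φ := by
  induction n with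
  | zero => simpa using hs 0 hn
  | succ n ih =>
    obtain ⟨ψ, h⟩ := ih (by omega)
    obtain ⟨κ, h1⟩ := hs (n + 1) hn
    obtain ⟨c, hc, θ, e⟩ := (h (n + 1) le_rfl).1.exists_saut (h1 0 (by decide)).1 (blk_comp_inj
      ((h1 0 (by decide)).1.ker_le le_rfl (by rintro _ ⟨x, rfl⟩; exact ⟨_, rfl⟩)) _ _ (by decide)
        (by decide)) ((h (n + 1) le_rfl).2.trans (h1 0 (by decide)).2.symm)
    obtain ⟨c', hc', e'⟩ : ∃ (c' : Fin 4 → F) (_ : ∀ i, nm 2 (c' i) = 1), (fun j : Fin 3 => c' ⟨0 + j, by omega⟩) = c :=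
      ⟨![c 0, c 1, c 2, 1], fun i => by fin_cases i <;> simp [hc]; simp [nm], by ext i; fin_cases i <;> rfl⟩
    subst e'
    have h2 := h1.comp_saut c' hc' θ 1 le_rfl
    obtain ⟨φ, h3, h4⟩ := step_two ψ (κ.comp (saut c' hc' θ)) (fun A => by
        rw [MonoidHom.comp_apply, saut_blk]; exact DFunLike.congr_fun e A)
      (fun A A' => by
        refine mem_centralizer_singleton_iff.1 ((gen_three (P := (centralizer _).comap
          (ψ.comp (blk 0 (by omega)))) fun i hi A => ?_).ge (mem_top A))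
        simp only [mem_comap, MonoidHom.comp_apply, blk_blk, mem_centralizer_singleton_iff]
        exact (h5 (n + 3) (0 + i) (by omega) hn _ (h2.1.lo.le ⟨A', congrArg (κ.comp (saut c' hc' θ))
          (blk_blk 1 1 le_rfl le_rfl A')⟩) _
          ((h _ _).2.le ⟨A, rfl⟩)).symm)
      fun i hi A A' => h6 i (n + 2) (by omega) hn _ ((h _ _).2.le ⟨A, rfl⟩) _ (h2.2.le ⟨A', rfl⟩)
    exact ⟨φ, Inv.succ (n := n + 1) h h3 (fun A => by
      rw [← blk_blk (n + 1) 1 le_rfl le_rfl, h4]; rfl) h2.1 h2.2⟩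

theorem phan_two {U : Fin (n + 3) → Subgroup G} {V : Fin (n + 3) → Fin (n + 3) → Subgroup G}
    (h1 : ∀ i j : Fin (n + 3), (i : ℕ) + 2 ≤ j → ∀ x ∈ U i, ∀ y ∈ U j, x * y = y * x)
    (h2 : ∀ i j : Fin (n + 3), (i : ℕ) + 1 = j →
      ∃ μ : SU 3 F 2 →* G, Std μ (U i) (U j) ∧ μ.range = V i j)
    (hgen : (⨆ i, U i) ⊔ (⨆ (i : Fin (n + 3)) (j : Fin (n + 3)) (_ : (i : ℕ) + 1 = j), V i j) = ⊤)
    (h4 : ∀ i j k : Fin (n + 3), (i : ℕ) + 1 = j → (j : ℕ) + 1 = k →
      ∃ g : SU 4 F 2 →* ↥(V i j ⊔ V j k), Function.Surjective g)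
    (h5 : ∀ i j k : Fin (n + 3), (j : ℕ) + 1 = k → ((i : ℕ) + 2 ≤ j ∨ (k : ℕ) + 2 ≤ i) →
      ∀ x ∈ U i, ∀ y ∈ V j k, x * y = y * x)
    (h6 : ∀ i j k l : Fin (n + 3), (i : ℕ) + 1 = j → (k : ℕ) + 1 = l → (j : ℕ) + 2 ≤ k →
      ∀ x ∈ V i j, ∀ y ∈ V k l, x * y = y * x) :
    ∃ f : SU (n + 4) F 2 →* G, Function.Surjective f := by
  refine (amalgam_two (N := n + 4) (fun i hi => ?_) (fun i j hi hj => ?_) (fun i j hi hj => ?_)
    le_rfl).imp fun _ h => h.surjective hgen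
  · obtain ⟨μ, e1, e2⟩ := h2 ⟨i, by omega⟩ ⟨i + 1, by omega⟩ rfl
    obtain ⟨μ', f1, f2⟩ := h2 ⟨i + 1, by omega⟩ ⟨i + 2, by omega⟩ rfl
    obtain ⟨g, hg⟩ := h4 ⟨i, by omega⟩ ⟨i + 1, by omega⟩ ⟨i + 2, by omega⟩ rfl rfl
    refine base_two (μ := μ) (μ' := μ') ?_ ?_ ?_ ?_ ?_ ((Subgroup.subtype _).comp g) ?_
    all_goals simp (disch := omega) only [ext1_eq, ext2_eq]
    exacts [e1, f1, e2, f2, h1 _ _ le_rfl, by
      rw [MonoidHom.range_comp, MonoidHom.range_eq_top.2 hg, ← MonoidHom.range_eq_map, range_subtype]; rfl]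
  · rw [ext1_eq U (by omega), ext2_eq V (by omega)]; exact h5 _ _ _ rfl (.inr hi)
  · rw [ext2_eq V (by omega), ext2_eq V (by omega)]; exact h6 _ _ _ _ rfl rfl hi

end H63.Phan
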